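import Cfsg.Agent.Lib.M24Order.Count.Tools
import Mathlib.GroupTheory.SchurZassenhaus

/-!
# Groups with the order and the counts of M24: element orders, local data, simplicity
-/

set_option autoImplicit false
set_option linter.style.haveILetI false
set_option linter.unusedSectionVars false

namespace Cfsg.Agent.M24Order.Count

open Subgroup

universe u

/-- The values of the counting function of M24. -/
def V : List ℕ :=
  [1, 43263, 712448, 5100480, 4080384, 20401920, 11658240, 15301440, 12241152, 22256640, 40803840,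
    34974720, 32643072, 23316480, 21288960]

/-- The order and the counts of M24. -/
structure Hyp (G : Type u) [Group G] [Finite G] : Prop where
  card : Nat.card G = 244823040
  values : ∀ c, (0 < c ∧ ∃ n, c = cnt G n) ↔ c ∈ V

variable {G : Type u} [Group G] [Finite G]

local instance fact5 : Fact (Nat.Prime 5) := ⟨by norm_num⟩
local instance fact7 : Fact (Nat.Prime 7) := ⟨by norm_num⟩
local instance fact11 : Fact (Nat.Prime 11) := ⟨by norm_num⟩
local instance fact23 : Fact (Nat.Prime 23) := ⟨by norm_num⟩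

/-- The number of elements of order `m` commuting with `x`. -/
noncomputable def kk (x : G) (m : ℕ) : ℕ := Nat.card {c : G // Commute x c ∧ orderOf c = m}

theorem cnt_eq_filter [Fintype G] [DecidableEq G] (n : ℕ) :
    cnt G n = (Finset.univ.filter fun g : G => orderOf g = n).card := by
  rw [cnt, Nat.card_eq_fintype_card, Fintype.card_subtype]

theorem cnt_pos_iff {n : ℕ} : 0 < cnt G n ↔ ∃ g : G, orderOf g = n := by
  rw [cnt, Nat.card_pos_iff]
  exact ⟨fun ⟨⟨g, hg⟩, _⟩ => ⟨g, hg⟩, fun ⟨g, hg⟩ => ⟨⟨⟨g, hg⟩⟩, inferInstance⟩⟩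

theorem cnt_one : cnt G 1 = 1 := by
  rw [cnt, Nat.card_eq_one_iff_unique]
  exact ⟨⟨fun a b => Subtype.ext ((orderOf_eq_one_iff.1 a.2).trans (orderOf_eq_one_iff.1 b.2).symm)⟩,
    ⟨1, orderOf_one⟩⟩

theorem cnt_dvd_pos {n d : ℕ} (hn : 0 < cnt G n) (hd : d ∣ n) : 0 < cnt G d := by
  obtain ⟨g, hg⟩ := cnt_pos_iff.1 hn
  obtain ⟨k, rfl⟩ := hd
  have hdk : orderOf g ≠ 0 := (orderOf_pos g).ne'
  rw [hg] at hdk
  refine cnt_pos_iff.2 ⟨g ^ k, ?_⟩
  rw [orderOf_pow_of_dvd (fun h => hdk (by simp [h])) (by rw [hg]; exact Dvd.intro_left _ rfl), hg,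
    Nat.mul_div_cancel _ (Nat.pos_of_ne_zero fun h => hdk (by simp [h]))]

theorem cent_le_zpowers {x c : G} (hc : c ∈ centralizer ({x} : Set G)) :
    c ∈ centralizer (zpowers x : Set G) := by
  refine mem_centralizer_iff.2 fun y hy => ?_
  obtain ⟨i, rfl⟩ := mem_zpowers_iff.1 hy
  exact ((show Commute c x from mem_centralizer_singleton_iff.1 hc).zpow_right i).symm.eq

/-- An inverse pairing. -/
theorem even_card_of_inv {s : G → Prop} (hinv : ∀ g, s g → s g⁻¹)
    (h3 : ∀ g, s g → g⁻¹ ≠ g) : 2 ∣ Nat.card {g : G // s g} := by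
  classical
  haveI := Fintype.ofFinite G
  rw [Nat.card_eq_fintype_card, Fintype.card_subtype, ← ZMod.natCast_eq_zero_iff,
    Finset.card_eq_sum_ones, Nat.cast_sum, Nat.cast_one]
  refine Finset.sum_involution (fun g _ => g⁻¹) (fun g _ => ?_) (fun g hg _ => ?_) (fun g hg => ?_)
    (fun g _ => inv_inv g)
  · decide
  · exact h3 g (Finset.mem_filter.1 hg).2
  · exact Finset.mem_filter.2 ⟨Finset.mem_univ _, hinv g (Finset.mem_filter.1 hg).2⟩

theorem inv_ne_self_of_two_lt {g : G} (h : 2 < orderOf g) : g⁻¹ ≠ g := fun e => by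
  have : g ^ 2 = 1 := by
    rw [pow_two]
    calc g * g = g⁻¹ * g := by rw [e]
      _ = 1 := inv_mul_cancel g
  have := Nat.le_of_dvd (by norm_num) (orderOf_dvd_of_pow_eq_one this)
  omega

/-! ### Sylow subgroups of prime order -/

section Prime

variable {q : ℕ} [hq : Fact q.Prime] {m₀ : ℕ} (hG : Nat.card G = q * m₀) (hm₀ : ¬ q ∣ m₀)

include hG hm₀

theorem card_sylow_eq (P : Sylow q G) : Nat.card (P : Subgroup G) = q := by
  rw [SmallSimple.Basic.card_sylow_eq_pow (a := 1) (m := m₀) (by rw [hG, pow_one]) hm₀ P, pow_one]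

theorem exists_sylow_zpowers {x : G} (hx : orderOf x = q) :
    ∃ P : Sylow q G, (P : Subgroup G) = zpowers x := by
  obtain ⟨P⟩ : Nonempty (Sylow q G) := inferInstance
  exact ⟨Sylow.ofCard (zpowers x) (by
    rw [Nat.card_zpowers, hx, ← P.card_eq_multiplicity, card_sylow_eq hG hm₀ P]), by rw [Sylow.coe_ofCard]⟩

theorem exists_conj {x y : G} (hx : orderOf x = q) (hy : orderOf y = q) :
    ∃ g : G, zpowers (g * x * g⁻¹) = zpowers y := by
  obtain ⟨P, hP⟩ := exists_sylow_zpowers hG hm₀ hx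
  obtain ⟨Q, hQ⟩ := exists_sylow_zpowers hG hm₀ hy
  obtain ⟨g, hg⟩ := MulAction.exists_smul_eq G P Q
  refine ⟨g, ?_⟩
  rw [← hQ, ← hg]
  show zpowers (g * x * g⁻¹) = (P : Subgroup G).map (MulAut.conj g).toMonoidHom
  rw [hP, MonoidHom.map_zpowers]
  rfl

theorem cnt_self : cnt G q = Nat.card (Sylow q G) * (q - 1) :=
  M22Order.Nse.card_order_eq fun P => card_sylow_eq hG hm₀ P

theorem card_normalizer_mul {x : G} (hx : orderOf x = q) :
    Nat.card (normalizer (zpowers x : Set G)) * Nat.card (Sylow q G) = Nat.card G := by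
  obtain ⟨P, hP⟩ := exists_sylow_zpowers hG hm₀ hx
  rw [← hP]
  exact SmallSimple.Basic.card_normalizer_mul P

/-- Elements of order `q * m` are counted inside one centraliser. -/
theorem cnt_mul {m : ℕ} (hm : 0 < m) (hqm : ¬ q ∣ m) {x : G} (hx : orderOf x = q) :
    cnt G (q * m) = cnt G q * kk x m := by
  classical
  haveI := Fintype.ofFinite {y : G // orderOf y = q}
  rw [card_split hq.out.pos hm (hq.out.coprime_iff_not_dvd.2 hqm)]
  rw [Finset.sum_congr rfl fun y _ => show Nat.card {c : G // Commute y.1 c ∧ orderOf c = m} = kk x m by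
    obtain ⟨g, hg⟩ := exists_conj hG hm₀ hx y.2
    refine (Nat.card_congr ((MulAut.conj g).toEquiv.subtypeEquiv fun c => ?_)).symm
    show Commute x c ∧ orderOf c = m ↔ Commute y.1 (g * c * g⁻¹) ∧ orderOf (g * c * g⁻¹) = m
    rw [show orderOf (g * c * g⁻¹) = orderOf c from MulEquiv.orderOf_eq (MulAut.conj g) c]
    refine and_congr ⟨fun h => ?_, fun h => ?_⟩ Iff.rfl
    · have hy : y.1 ∈ zpowers (g * x * g⁻¹) := hg ▸ mem_zpowers _
      obtain ⟨i, hi⟩ := mem_zpowers_iff.1 hy
      rw [← hi]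
      exact Commute.zpow_left (by simpa using h.map (MulAut.conj g).toMonoidHom) i
    · have hy : g * x * g⁻¹ ∈ zpowers y.1 := hg ▸ mem_zpowers _
      obtain ⟨i, hi⟩ := mem_zpowers_iff.1 hy
      have h' := h.zpow_left i
      rw [hi] at h'
      simpa [mul_assoc] using h'.map (MulAut.conj g⁻¹).toMonoidHom, Finset.sum_const, smul_eq_mul,
    Finset.card_univ, ← Nat.card_eq_fintype_card]
  rfl

/-- The counts are congruent to those in a centraliser. -/
theorem cnt_modEq {x : G} (hx : orderOf x = q) (n : ℕ) : cnt G n ≡ kk x n [MOD q] := by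
  classical
  let T := {g : G // orderOf g = n}
  letI : MulAction (zpowers x) T :=
    { smul := fun a g => ⟨(a : G) * g * (a : G)⁻¹, (MulEquiv.orderOf_eq (MulAut.conj (a : G)) g.1).trans g.2⟩
      one_smul := fun g => Subtype.ext (show (1 : G) * g.1 * (1 : G)⁻¹ = g.1 by group)
      mul_smul := fun a b g => Subtype.ext
        (show ((a : G) * b) * g.1 * ((a : G) * b)⁻¹ = (a : G) * ((b : G) * g.1 * (b : G)⁻¹) * (a : G)⁻¹ by
          group) }
  have h := (IsPGroup.of_card (n := 1) (by rw [Nat.card_zpowers, hx, pow_one]) :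
    IsPGroup q (zpowers x)).card_modEq_card_fixedPoints (α := T)
  have e : Nat.card (MulAction.fixedPoints (zpowers x) T) = kk x n := Nat.card_congr
    { toFun := fun g => ⟨g.1.1, by
        have e : x * g.1.1 * x⁻¹ = g.1.1 := congrArg Subtype.val (g.2 ⟨x, mem_zpowers x⟩)
        exact mul_inv_eq_iff_eq_mul.1 e, g.1.2⟩
      invFun := fun c => ⟨⟨c.1, c.2.2⟩, fun a => Subtype.ext (by
        show (a : G) * c.1 * (a : G)⁻¹ = c.1
        obtain ⟨i, hi⟩ := mem_zpowers_iff.1 a.2
        rw [← hi, (c.2.1.zpow_left i).eq, mul_inv_cancel_right])⟩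
      left_inv := fun g => rfl
      right_inv := fun c => rfl }
  rw [← e]
  exact h

/-- A centraliser is the product of its Sylow subgroup and the elements of order prime to `q`. -/
theorem exists_complement {x : G} (hx : orderOf x = q) :
    ∃ D : Subgroup G, Nat.card (centralizer ({x} : Set G)) = q * Nat.card D ∧
      ∀ c : G, (Commute x c ∧ ¬ q ∣ orderOf c) ↔ c ∈ D := by
  set C := centralizer ({x} : Set G)
  have hxC : x ∈ C := mem_centralizer_singleton_iff.2 rfl
  set Z : Subgroup C := zpowers (⟨x, hxC⟩ : C)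
  haveI : Z.Normal := ⟨fun z hz g => by
    obtain ⟨i, rfl⟩ := mem_zpowers_iff.1 hz
    have hc : Commute g (⟨x, hxC⟩ : C) :=
      Subtype.ext (mem_centralizer_singleton_iff.1 g.2)
    rw [(hc.zpow_right i).eq, mul_inv_cancel_right]
    exact hz⟩
  have hZ : Nat.card Z = q := by rw [Nat.card_zpowers, ← orderOf_coe, hx]
  have hcop : Nat.Coprime (Nat.card Z) Z.index := by
    rw [hZ, hq.out.coprime_iff_not_dvd]
    intro h
    have h1 : q * q ∣ Nat.card G := by
      refine (Nat.mul_dvd_mul (dvd_refl q) h).trans ?_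
      have := card_mul_index Z
      rw [hZ] at this
      rw [this]
      exact card_subgroup_dvd_card C
    rw [hG] at h1
    exact hm₀ (Nat.dvd_of_mul_dvd_mul_left hq.out.pos h1)
  obtain ⟨D, hD⟩ := exists_right_complement'_of_coprime hcop
  have hidx : Nat.card D = Z.index := (hD.symm.index_eq_card).symm
  refine ⟨D.map C.subtype, ?_, fun c => ⟨?_, ?_⟩⟩
  · rw [Subgroup.card_subtype, hidx, ← card_mul_index Z, hZ]
  · rintro ⟨hc, hqc⟩
    obtain ⟨⟨z, d⟩, hzd⟩ := hD.2 (⟨c, mem_centralizer_singleton_iff.2 hc.symm.eq⟩ : C)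
    refine ⟨d, d.2, ?_⟩
    have hz : z = 1 := by
      obtain ⟨i, hi⟩ := mem_zpowers_iff.1 z.2
      by_contra hz1
      have hoz : orderOf (z : C) = q := by
        have h : orderOf (z : C) ∣ Nat.card Z := Subgroup.orderOf_dvd_natCard Z z.2
        rw [hZ] at h
        exact (hq.out.eq_one_or_self_of_dvd _ h).resolve_left fun e =>
          hz1 (Subtype.ext (orderOf_eq_one_iff.1 e))
      have hcm : Commute (z : C) (d : C) := by
        rw [← hi]
        exact Commute.zpow_left (Subtype.ext (mem_centralizer_singleton_iff.1 (d : C).2).symm) i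
      have hcop' : Nat.Coprime (orderOf (z : C)) (orderOf (d : C)) := by
        rw [hoz]
        refine Nat.Coprime.coprime_dvd_right (Subgroup.orderOf_dvd_natCard D d.2) ?_
        rw [hidx, ← hZ]
        exact hcop
      apply hqc
      have : orderOf c = orderOf ((z : C) * d) := by
        rw [← orderOf_coe]; exact congrArg orderOf (congrArg Subtype.val hzd).symm
      rw [this, hcm.orderOf_mul_eq_mul_orderOf_of_coprime hcop', hoz]
      exact dvd_mul_right q _
    have h := congrArg Subtype.val hzd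
    simp only [hz, OneMemClass.coe_one, one_mul] at h
    exact h
  · rintro ⟨d, hd, rfl⟩
    refine ⟨(mem_centralizer_singleton_iff.1 d.2).symm, fun h => ?_⟩
    have h1 : orderOf (d : C) ∣ Z.index := hidx ▸ Subgroup.orderOf_dvd_natCard D hd
    rw [Subgroup.coe_subtype, Subgroup.orderOf_coe] at h
    exact hq.out.coprime_iff_not_dvd.1 (hZ ▸ hcop) (h.trans h1)

/-- The order of the complement is the sum of the counts in it. -/
theorem exists_partition {x : G} (hx : orderOf x = q) :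
    ∃ d : ℕ, Nat.card (centralizer ({x} : Set G)) = q * d ∧ d ∣ m₀ ∧
      (∀ m, ¬ q ∣ m → 0 < kk x m → m ∣ d) ∧
      (∀ r : ℕ, r.Prime → r ∣ d → 0 < kk x r) ∧
      d = ∑ m ∈ d.divisors, kk x m := by
  classical
  haveI := Fintype.ofFinite G
  obtain ⟨D, hD, hmem⟩ := exists_complement hG hm₀ hx
  refine ⟨Nat.card D, hD, ?_, ?_, ?_, ?_⟩
  · have h := card_subgroup_dvd_card (centralizer ({x} : Set G))
    rw [hD, hG] at h
    exact Nat.dvd_of_mul_dvd_mul_left hq.out.pos h
  · intro m hqm hm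
    rw [kk, Nat.card_pos_iff] at hm
    obtain ⟨⟨c, hc, rfl⟩⟩ := hm.1
    exact Subgroup.orderOf_dvd_natCard D ((hmem c).1 ⟨hc, hqm⟩)
  · intro r hr hrd
    haveI := Fact.mk hr
    obtain ⟨⟨c, hcD⟩, hc⟩ := exists_prime_orderOf_dvd_card' (G := D) r hrd
    rw [Subgroup.orderOf_mk] at hc
    rw [kk, Nat.card_pos_iff]
    exact ⟨⟨⟨c, ((hmem c).2 hcD).1, hc⟩⟩, inferInstance⟩
  · have h : (Finset.univ.filter fun c : G => c ∈ D).card = Nat.card D := by
      rw [← Fintype.card_subtype, ← Nat.card_eq_fintype_card]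
    conv_lhs => rw [← h]
    rw [Finset.card_eq_sum_card_fiberwise (f := orderOf) (t := (Nat.card D).divisors) (fun c hc => by
      simp only [Finset.coe_filter, Finset.mem_univ, true_and, Set.mem_setOf_eq] at hc
      exact Finset.mem_coe.2 (Nat.mem_divisors.2 ⟨Subgroup.orderOf_dvd_natCard D hc, Nat.card_pos.ne'⟩))]
    refine Finset.sum_congr rfl fun m hm => ?_
    rw [kk, Nat.card_eq_fintype_card, Fintype.card_subtype]
    congr 1
    ext c
    simp only [Finset.mem_filter, Finset.mem_univ, true_and]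
    constructor
    · rintro ⟨hc, rfl⟩; exact ⟨((hmem c).2 hc).1, rfl⟩
    · rintro ⟨hc, rfl⟩
      refine ⟨(hmem c).1 ⟨hc, fun h => hm₀ ?_⟩, rfl⟩
      have hd := card_subgroup_dvd_card (centralizer ({x} : Set G))
      rw [hD, hG] at hd
      exact (h.trans (Nat.dvd_of_mem_divisors hm)).trans (Nat.dvd_of_mul_dvd_mul_left hq.out.pos hd)

end Prime

/-! ### The counts -/

namespace Hyp

variable (H : Hyp G)
include H

theorem mem {n : ℕ} (h : 0 < cnt G n) : cnt G n ∈ V := (H.values _).1 ⟨h, n, rfl⟩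

theorem exists_eq {c : ℕ} (h : c ∈ V) : ∃ n, cnt G n = c ∧ 0 < cnt G n := by
  obtain ⟨h0, n, rfl⟩ := (H.values c).2 h
  exact ⟨n, rfl, h0⟩

/-- Orders with equal counts are equal. -/
theorem unique {a b : ℕ} (ha : 0 < cnt G a) (h : cnt G a = cnt G b) : a = b := by
  classical
  haveI := Fintype.ofFinite G
  set O : Finset ℕ := Finset.univ.image (orderOf : G → ℕ) with hO
  have hpos : ∀ n, n ∈ O ↔ 0 < cnt G n := fun n => by simp [hO, cnt_pos_iff]
  have hsum : ∑ n ∈ O, cnt G n = 244823040 := by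
    rw [← H.card, Nat.card_eq_fintype_card, Finset.card_univ.symm,
      Finset.card_eq_sum_card_image (orderOf : G → ℕ)]
    exact Finset.sum_congr rfl fun n _ => cnt_eq_filter n
  have himg : O.image (cnt G) = V.toFinset := by
    ext c
    simp only [Finset.mem_image, List.mem_toFinset, hpos]
    exact ⟨fun ⟨n, hn, e⟩ => e ▸ H.mem hn, fun hc => by
      obtain ⟨n, e, hn⟩ := H.exists_eq hc
      exact ⟨n, hn, e⟩⟩
  by_contra hne
  have hb : b ∈ O := (hpos b).2 (h ▸ ha)
  have himg' : (O.erase b).image (cnt G) = V.toFinset := by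
    refine le_antisymm ((Finset.image_subset_image (Finset.erase_subset _ _)).trans himg.le) fun c hc => ?_
    rw [← himg, Finset.mem_image] at hc
    obtain ⟨n, hn, rfl⟩ := hc
    refine Finset.mem_image.2 ?_
    by_cases hnb : n = b
    · exact ⟨a, Finset.mem_erase.2 ⟨hne, (hpos a).2 ha⟩, hnb ▸ h⟩
    · exact ⟨n, Finset.mem_erase.2 ⟨hnb, hn⟩, rfl⟩
  have hle : ∑ c ∈ (O.erase b).image (cnt G), c ≤ ∑ n ∈ O.erase b, cnt G n :=
    Finset.sum_image_le_of_nonneg fun _ _ => Nat.zero_le _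
  rw [himg', show ∑ c ∈ V.toFinset, c = 244823040 from by decide +kernel] at hle
  have := Finset.sum_erase_add O (cnt G) hb
  omega

theorem card_eq {q m₀ : ℕ} (h : 244823040 = q * m₀) : Nat.card G = q * m₀ := H.card.trans h

theorem cnt_prime {q m₀ v : ℕ} [hq : Fact q.Prime] (hG : 244823040 = q * m₀) (hm₀ : ¬ q ∣ m₀)
    (hv : ∀ c ∈ V, c % q = q - 1 → c = v) : cnt G q = v := by
  have h1 := cnt_self (H.card_eq hG) hm₀
  have hs := card_sylow_modEq_one q G
  have h2 := hq.out.two_le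
  refine hv _ (H.mem ?_) ?_
  · rw [h1]; exact Nat.mul_pos Nat.card_pos (by omega)
  · have h3 : Nat.card (Sylow q G) * (q - 1) ≡ 1 * (q - 1) [MOD q] := hs.mul_right _
    unfold Nat.ModEq at h3
    rw [h1, h3, one_mul, Nat.mod_eq_of_lt (by omega)]

theorem cnt23 : cnt G 23 = 21288960 := H.cnt_prime (m₀ := 10644480) (by norm_num) (by norm_num) (by decide)
theorem cnt11 : cnt G 11 = 22256640 := H.cnt_prime (m₀ := 22256640) (by norm_num) (by norm_num) (by decide)
theorem cnt7 : cnt G 7 = 11658240 := H.cnt_prime (m₀ := 34974720) (by norm_num) (by norm_num) (by decide)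
theorem cnt5 : cnt G 5 = 4080384 := H.cnt_prime (m₀ := 48964608) (by norm_num) (by norm_num) (by decide)

theorem normalizer_card {q m₀ n : ℕ} [hq : Fact q.Prime] (hG : 244823040 = q * m₀) (hm₀ : ¬ q ∣ m₀)
    (hn : 244823040 * (q - 1) = n * cnt G q) {x : G} (hx : orderOf x = q) :
    Nat.card (normalizer (zpowers x : Set G)) = n := by
  have h1 := card_normalizer_mul (H.card_eq hG) hm₀ hx
  rw [cnt_self (H.card_eq hG) hm₀, ← H.card, ← h1] at hn
  have hpos : 0 < Nat.card (Sylow q G) * (q - 1) := Nat.mul_pos Nat.card_pos (by have := hq.out.two_le; omega)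
  exact Nat.eq_of_mul_eq_mul_right hpos (by rw [← hn]; ring)

theorem N23 {x : G} (hx : orderOf x = 23) : Nat.card (normalizer (zpowers x : Set G)) = 253 :=
  H.normalizer_card (m₀ := 10644480) (by norm_num) (by norm_num) (by rw [H.cnt23]) hx
theorem N11 {x : G} (hx : orderOf x = 11) : Nat.card (normalizer (zpowers x : Set G)) = 110 :=
  H.normalizer_card (m₀ := 22256640) (by norm_num) (by norm_num) (by rw [H.cnt11]) hx
theorem N7 {x : G} (hx : orderOf x = 7) : Nat.card (normalizer (zpowers x : Set G)) = 126 :=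
  H.normalizer_card (m₀ := 34974720) (by norm_num) (by norm_num) (by rw [H.cnt7]) hx
theorem N5 {x : G} (hx : orderOf x = 5) : Nat.card (normalizer (zpowers x : Set G)) = 240 :=
  H.normalizer_card (m₀ := 48964608) (by norm_num) (by norm_num) (by rw [H.cnt5]) hx

omit H in
theorem exists_elt {q : ℕ} [Fact q.Prime] (h : q ∣ Nat.card G) : ∃ x : G, orderOf x = q :=
  exists_prime_orderOf_dvd_card' q h

/-- Centraliser counts: the multipliers are values and differ. -/
theorem kk_mem {q m₀ : ℕ} [hq : Fact q.Prime] (hG : 244823040 = q * m₀) (hm₀ : ¬ q ∣ m₀) {x : G}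
    (hx : orderOf x = q) {m : ℕ} (hm1 : 1 < m) (hqm : ¬ q ∣ m) (hk : 0 < kk x m) :
    cnt G q * kk x m ∈ V ∧ kk x m ≠ 1 ∧
      ∀ m', 1 < m' → ¬ q ∣ m' → kk x m' = kk x m → m' = m := by
  have hG' := H.card_eq hG
  have h1 := cnt_mul hG' hm₀ (by omega : 0 < m) hqm hx
  have hq0 : 0 < cnt G q := cnt_pos_iff.2 ⟨x, hx⟩
  have hp : 0 < cnt G (q * m) := h1 ▸ Nat.mul_pos hq0 hk
  refine ⟨h1 ▸ H.mem hp, fun h => ?_, fun m' hm' hqm' h => ?_⟩
  · rw [h, mul_one] at h1
    have := H.unique hp h1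
    have hlt : q * 1 < q * m := Nat.mul_lt_mul_of_pos_left hm1 hq.out.pos
    omega
  · have h2 := cnt_mul hG' hm₀ (by omega : 0 < m') hqm' hx
    rw [h, ← h1] at h2
    exact (Nat.eq_of_mul_eq_mul_left hq.out.pos (H.unique hp h2.symm)).symm

theorem cent_prime {q m₀ : ℕ} [hq : Fact q.Prime] (hG : 244823040 = q * m₀) (hm₀ : ¬ q ∣ m₀)
    (hv : ∀ c ∈ V, cnt G q ∣ c → c = cnt G q) {x : G} (hx : orderOf x = q) :
    Nat.card (centralizer ({x} : Set G)) = q := by
  obtain ⟨d, hd, hdm, -, hprime, -⟩ := exists_partition (H.card_eq hG) hm₀ hx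
  by_contra hne
  obtain ⟨r, hr, hrd⟩ := Nat.exists_prime_and_dvd (n := d) fun h => hne (by rw [hd, h, mul_one])
  have hk := hprime r hr hrd
  obtain ⟨h1, h2, -⟩ := H.kk_mem hG hm₀ hx hr.one_lt
    (fun h => hm₀ (((Nat.prime_dvd_prime_iff_eq hq.out hr).1 h ▸ hrd).trans hdm)) hk
  have := hv _ h1 (dvd_mul_right _ _)
  exact h2 (Nat.eq_of_mul_eq_mul_left (cnt_pos_iff.2 ⟨x, hx⟩) (by rw [this, mul_one]))

theorem C23 {x : G} (hx : orderOf x = 23) : Nat.card (centralizer ({x} : Set G)) = 23 :=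
  H.cent_prime (m₀ := 10644480) (by norm_num) (by norm_num) (by rw [H.cnt23]; decide) hx

theorem C11 {x : G} (hx : orderOf x = 11) : Nat.card (centralizer ({x} : Set G)) = 11 :=
  H.cent_prime (m₀ := 22256640) (by norm_num) (by norm_num) (by rw [H.cnt11]; decide) hx

theorem cnt_two : cnt G 2 = 43263 := by
  classical
  haveI : Fact (Nat.Prime 2) := ⟨Nat.prime_two⟩
  haveI := Fintype.ofFinite G
  obtain ⟨x, hx⟩ := exists_elt (G := G) (q := 2) (by rw [H.card]; norm_num)
  have hpos : 0 < cnt G 2 := cnt_pos_iff.2 ⟨x, hx⟩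
  have hev : 2 ∣ Nat.card {g : G // g⁻¹ ≠ g} :=
    even_card_of_inv (fun g h => by simpa using fun e : g = g⁻¹ => h e.symm) fun g h => h
  have hsplit : Nat.card {g : G // g⁻¹ ≠ g} + (1 + cnt G 2) = 244823040 := by
    rw [← H.card, ← cnt_one (G := G), cnt_eq_filter, cnt_eq_filter, Nat.card_eq_fintype_card,
      Nat.card_eq_fintype_card, Fintype.card_subtype, ← Finset.card_union_of_disjoint (by
        rw [Finset.disjoint_filter]; intro g _ h; omega), ← Finset.card_union_of_disjoint (by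
        rw [Finset.disjoint_left]
        intro g hg hg'
        simp only [Finset.mem_filter, Finset.mem_univ, true_and, Finset.mem_union] at hg hg'
        rcases hg' with h | h
        · rw [orderOf_eq_one_iff] at h; exact hg (by rw [h, inv_one])
        · exact hg (inv_eq_of_mul_eq_one_right (by rw [← pow_two, ← h, pow_orderOf_eq_one])))]
    rw [← Finset.card_univ]
    congr 1
    refine Finset.eq_univ_iff_forall.2 fun g => ?_
    simp only [Finset.mem_filter, Finset.mem_univ, true_and, Finset.mem_union]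
    by_cases hg : g⁻¹ = g
    · refine Or.inr ?_
      have h2 : g ^ 2 = 1 := by
        rw [pow_two]
        calc g * g = g⁻¹ * g := by rw [hg]
          _ = 1 := inv_mul_cancel g
      rcases (Nat.dvd_prime Nat.prime_two).1 (orderOf_dvd_of_pow_eq_one h2) with h | h
      · exact Or.inl h
      · exact Or.inr h
    · exact Or.inl hg
  have hmem := H.mem hpos
  have hne : cnt G 2 ≠ 1 := fun h => by
    have := H.unique hpos (h.trans cnt_one.symm)
    omega
  have hodd : ∀ c ∈ V, c % 2 = 1 → c = 1 ∨ c = 43263 := by decide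
  rcases hodd _ hmem (by omega) with h | h
  · exact absurd h hne
  · exact h

theorem kk_two {q m₀ : ℕ} [hq : Fact q.Prime] (hG : 244823040 = q * m₀) (hm₀ : ¬ q ∣ m₀) {x : G}
    (hx : orderOf x = q) : kk x 2 % q = 43263 % q := by
  rw [← H.cnt_two]; exact (cnt_modEq (H.card_eq hG) hm₀ hx 2).symm

theorem seven {x : G} (hx : orderOf x = 7) :
    Nat.card (centralizer ({x} : Set G)) = 42 ∧ kk x 2 = 3 ∧ kk x 3 = 2 ∧
      ∀ m, 0 < kk x m → ¬ 7 ∣ m → m = 1 ∨ m = 2 ∨ m = 3 := by
  classical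
  obtain ⟨d, hd, hdm, hdiv, hprime, hsum⟩ :=
    exists_partition (H.card_eq (show 244823040 = 7 * 34974720 by norm_num)) (by norm_num) hx
  have hmul : ∀ m, 1 < m → ¬ 7 ∣ m → 0 < kk x m → (kk x m = 2 ∨ kk x m = 3) ∧
      ∀ m', 1 < m' → ¬ 7 ∣ m' → kk x m' = kk x m → m' = m := by
    intro m hm h7 hk
    obtain ⟨h1, h2, h3⟩ := H.kk_mem (show 244823040 = 7 * 34974720 by norm_num) (by norm_num) hx hm h7 hk
    refine ⟨?_, h3⟩
    rw [H.cnt7] at h1
    have hle : kk x m ≤ 3 := by
      have : ∀ c ∈ V, c ≤ 40803840 := by decide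
      have := this _ h1
      omega
    omega
  have hk2 : kk x 2 = 3 := by
    have := H.kk_two (show 244823040 = 7 * 34974720 by norm_num) (by norm_num) hx
    rcases Nat.eq_zero_or_pos (kk x 2) with h | h
    · omega
    · have := (hmul 2 (by norm_num) (by norm_num) h).1; omega
  have h18 : d ∣ 18 := by
    have h := card_dvd_of_le (show centralizer ({x} : Set G) ≤ normalizer (zpowers x : Set G) by
      intro c hc; exact centralizer_le_normalizer _ (cent_le_zpowers hc))
    rw [hd, H.N7 hx] at h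
    exact Nat.dvd_of_mul_dvd_mul_left (by norm_num : 0 < 7) (show 7 * d ∣ 7 * 18 from h)
  have h7d : ∀ m ∈ d.divisors, ¬ 7 ∣ m := fun m hm h => by
    have := (h.trans (Nat.dvd_of_mem_divisors hm)).trans h18
    norm_num at this
  have h2d : 2 ∣ d := hdiv 2 (by norm_num) (by rw [hk2]; norm_num)
  have hd0 : d ≠ 0 := fun h => by rw [h] at h18; norm_num at h18
  have hk1 : kk x 1 = 1 := by
    rw [kk, Nat.card_eq_one_iff_unique]
    exact ⟨⟨fun a b => Subtype.ext ((orderOf_eq_one_iff.1 a.2.2).trans (orderOf_eq_one_iff.1 b.2.2).symm)⟩,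
      ⟨1, Commute.one_right x, orderOf_one⟩⟩
  set R := d.divisors \ {1, 2} with hR
  have h12 : d = 4 + ∑ m ∈ R, kk x m := by
    have hs := Finset.sum_sdiff (s₁ := {1, 2}) (s₂ := d.divisors) (f := kk x) (by
      intro m hm; simp only [Finset.mem_insert, Finset.mem_singleton] at hm
      rcases hm with rfl | rfl
      · exact Nat.mem_divisors.2 ⟨one_dvd _, hd0⟩
      · exact Nat.mem_divisors.2 ⟨h2d, hd0⟩)
    rw [Finset.sum_pair (by decide), hk1, hk2, ← hR, ← hsum] at hs
    omega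
  have hRm : ∀ m ∈ R, 1 < m ∧ m ≠ 2 ∧ ¬ 7 ∣ m := fun m hm => by
    simp only [hR, Finset.mem_sdiff, Finset.mem_insert, Finset.mem_singleton, not_or] at hm
    have := Nat.pos_of_mem_divisors hm.1
    exact ⟨by omega, hm.2.2, h7d m hm.1⟩
  have hR2 : ∀ m ∈ R, 0 < kk x m → kk x m = 2 := fun m hm hk => by
    obtain ⟨h1, h2, h7⟩ := hRm m hm
    obtain ⟨h23, hu⟩ := hmul m h1 h7 hk
    rcases h23 with h | h
    · exact h
    · exact absurd (hu 2 (by norm_num) (by norm_num) (by rw [hk2, h])).symm h2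
  have hRs : ∑ m ∈ R, kk x m ≤ 2 := by
    by_cases hex : ∃ m ∈ R, 0 < kk x m
    · obtain ⟨m, hm, hk⟩ := hex
      rw [Finset.sum_eq_single_of_mem m hm fun m' hm' hne => ?_, hR2 m hm hk]
      by_contra h0
      have hk' := Nat.pos_of_ne_zero h0
      exact hne ((hmul m (hRm m hm).1 (hRm m hm).2.2 hk).2 m' (hRm m' hm').1 (hRm m' hm').2.2
        (by rw [hR2 m' hm' hk', hR2 m hm hk]))
    · simp only [not_exists, not_and, Nat.pos_iff_ne_zero, not_not] at hex
      simp [Finset.sum_eq_zero hex]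
  have hd6 : d = 6 := by
    have hle : d ≤ 6 := by omega
    have hge : 4 ≤ d := by omega
    interval_cases d <;> first | rfl | (norm_num at h18)
  have hk3 : kk x 3 = 2 := by
    refine hR2 3 ?_ (hprime 3 Nat.prime_three (by rw [hd6]; norm_num))
    simp [hR, hd6]
  refine ⟨by rw [hd, hd6], hk2, hk3, fun m hk h7 => ?_⟩
  have hm6 := hdiv m h7 hk
  rw [hd6] at hm6
  have h0 : m ≠ 0 := by rintro rfl; norm_num at hm6
  have hle := Nat.le_of_dvd (by norm_num) hm6
  by_contra hne
  simp only [not_or] at hne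
  have hm' : m = 6 := by interval_cases m <;> omega
  subst hm'
  have h6R : 6 ∈ R := by simp [hR, hd6]
  obtain ⟨h23, hu⟩ := hmul 6 (by norm_num) (by norm_num) hk
  have := hu 3 (by norm_num) (by norm_num) (by rw [hk3, hR2 6 h6R hk])
  norm_num at this

theorem cnt_three : cnt G 3 = 712448 := by
  obtain ⟨x, hx⟩ := exists_elt (G := G) (q := 7) (by rw [H.card]; norm_num)
  have h := cnt_modEq (H.card_eq (show 244823040 = 7 * 34974720 by norm_num)) (by norm_num) hx 3
  rw [(H.seven hx).2.2.1] at h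
  have h3 : 0 < cnt G 3 := by
    haveI : Fact (Nat.Prime 3) := ⟨Nat.prime_three⟩
    exact cnt_pos_iff.2 (exists_elt (by rw [H.card]; norm_num))
  exact (show ∀ c ∈ V, c % 7 = 2 → c = 712448 by decide) _ (H.mem h3) h

theorem five {x : G} (hx : orderOf x = 5) :
    Nat.card (centralizer ({x} : Set G)) = 60 ∧ kk x 2 = 3 ∧ kk x 3 = 8 ∧
      ∀ m, 0 < kk x m → ¬ 5 ∣ m → m = 1 ∨ m = 2 ∨ m = 3 := by
  classical
  obtain ⟨d, hd, hdm, hdiv, hprime, hsum⟩ :=
    exists_partition (H.card_eq (show 244823040 = 5 * 48964608 by norm_num)) (by norm_num) hx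
  have hmul : ∀ m, 1 < m → ¬ 5 ∣ m → 0 < kk x m →
      (kk x m = 3 ∨ kk x m = 5 ∨ kk x m = 8 ∨ kk x m = 10) ∧
      ∀ m', 1 < m' → ¬ 5 ∣ m' → kk x m' = kk x m → m' = m := by
    intro m hm h5 hk
    obtain ⟨h1, h2, h3⟩ := H.kk_mem (show 244823040 = 5 * 48964608 by norm_num) (by norm_num) hx hm h5 hk
    refine ⟨?_, h3⟩
    rw [H.cnt5] at h1
    have hle : kk x m ≤ 10 := by
      have : ∀ c ∈ V, c ≤ 40803840 := by decide
      have := this _ h1
      omega
    exact (show ∀ k < 11, 4080384 * k ∈ V → k ≠ 1 → k = 3 ∨ k = 5 ∨ k = 8 ∨ k = 10 by decide) _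
      (by omega) h1 h2
  have h3mod : kk x 3 % 5 = 3 := by
    have := cnt_modEq (H.card_eq (show 244823040 = 5 * 48964608 by norm_num)) (by norm_num) hx 3
    rw [H.cnt_three] at this
    exact this.symm
  have h2mod : kk x 2 % 5 = 3 := H.kk_two (show 244823040 = 5 * 48964608 by norm_num) (by norm_num) hx
  have hev3 : 2 ∣ kk x 3 := even_card_of_inv
    (fun g h => ⟨h.1.inv_right, by rw [orderOf_inv]; exact h.2⟩)
    fun g h => inv_ne_self_of_two_lt (by rw [h.2]; norm_num)
  have hk3 : kk x 3 = 8 := by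
    have := (hmul 3 (by norm_num) (by norm_num) (by omega)).1; omega
  have hk2 : kk x 2 = 3 := by
    obtain ⟨h1, hu⟩ := hmul 2 (by norm_num) (by norm_num) (by omega)
    have : kk x 2 ≠ 8 := fun h => by
      have := hu 3 (by norm_num) (by norm_num) (by rw [hk3, h])
      omega
    omega
  have h48 : d ∣ 48 := by
    have h := card_dvd_of_le (show centralizer ({x} : Set G) ≤ normalizer (zpowers x : Set G) by
      intro c hc; exact centralizer_le_normalizer _ (cent_le_zpowers hc))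
    rw [hd, H.N5 hx] at h
    exact Nat.dvd_of_mul_dvd_mul_left (by norm_num : 0 < 5) (show 5 * d ∣ 5 * 48 from h)
  have h2d : 2 ∣ d := hdiv 2 (by norm_num) (by rw [hk2]; norm_num)
  have h3d : 3 ∣ d := hdiv 3 (by norm_num) (by rw [hk3]; norm_num)
  have hd0 : d ≠ 0 := fun h => by rw [h] at h48; norm_num at h48
  have hk1 : kk x 1 = 1 := by
    rw [kk, Nat.card_eq_one_iff_unique]
    exact ⟨⟨fun a b => Subtype.ext ((orderOf_eq_one_iff.1 a.2.2).trans (orderOf_eq_one_iff.1 b.2.2).symm)⟩,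
      ⟨1, Commute.one_right x, orderOf_one⟩⟩
  set R := d.divisors \ {1, 2, 3} with hR
  have h12 : d = 12 + ∑ m ∈ R, kk x m := by
    have hs := Finset.sum_sdiff (s₁ := {1, 2, 3}) (s₂ := d.divisors) (f := kk x) (by
      intro m hm; simp only [Finset.mem_insert, Finset.mem_singleton] at hm
      rcases hm with rfl | rfl | rfl
      · exact Nat.mem_divisors.2 ⟨one_dvd _, hd0⟩
      · exact Nat.mem_divisors.2 ⟨h2d, hd0⟩
      · exact Nat.mem_divisors.2 ⟨h3d, hd0⟩)
    rw [Finset.sum_insert (by decide), Finset.sum_pair (by decide), hk1, hk2, hk3, ← hR, ← hsum] at hs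
    omega
  have hR5 : ∀ m ∈ R, 5 ∣ kk x m := fun m hm => by
    rcases Nat.eq_zero_or_pos (kk x m) with h | h
    · simp [h]
    simp only [hR, Finset.mem_sdiff, Finset.mem_insert, Finset.mem_singleton, not_or] at hm
    have := Nat.pos_of_mem_divisors hm.1
    have h5 : ¬ 5 ∣ m := fun e => by
      have := (e.trans (Nat.dvd_of_mem_divisors hm.1)).trans h48
      norm_num at this
    obtain ⟨hv, hu⟩ := hmul m (by omega) h5 h
    rcases hv with e | e | e | e
    · exact absurd (hu 2 (by norm_num) (by norm_num) (by rw [hk2, e])).symm hm.2.2.1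
    · simp [e]
    · exact absurd (hu 3 (by norm_num) (by norm_num) (by rw [hk3, e])).symm hm.2.2.2
    · simp [e]
  have hd12 : d = 12 := by
    obtain ⟨j, hj⟩ := Finset.dvd_sum hR5
    have := Nat.le_of_dvd (by norm_num) h48
    have hj' : j ≤ 7 := by omega
    interval_cases j <;> rw [hj] at h12 <;> norm_num at h12 <;> subst h12 <;> first | rfl | (norm_num at h48)
  refine ⟨by rw [hd, hd12], hk2, hk3, fun m hk h5 => ?_⟩
  by_contra hne
  simp only [not_or] at hne
  have hmR : m ∈ R := by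
    simp [hR, hdiv m h5 hk, hd0, hne]
  have h0 : ∑ m ∈ R, kk x m = 0 := by omega
  have := Finset.sum_eq_zero_iff.1 h0 m hmR
  omega

/-! ### The spectrum -/

/-- The orders not divisible by 5, 7, 11 or 23 other than 1, 2, 3. -/
theorem rest {n : ℕ} (hn : 0 < cnt G n) :
    n ∈ [1, 2, 3, 5, 7, 10, 11, 14, 15, 21, 23] ∨
      (n ∣ 27648 ∧ cnt G n ∈ [5100480, 15301440, 20401920, 40803840]) := by
  obtain ⟨g, hg⟩ := cnt_pos_iff.1 hn
  have hdvd : n ∣ 244823040 := by rw [← hg, ← H.card]; exact orderOf_dvd_natCard g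
  by_cases hknown : n ∈ [1, 2, 3, 5, 7, 10, 11, 14, 15, 21, 23]
  · exact Or.inl hknown
  have hstep : ∀ q m₀ : ℕ, [Fact q.Prime] → 244823040 = q * m₀ → ¬ q ∣ m₀ → q ∣ n →
      ∃ x : G, orderOf x = q ∧ ∃ m, n = q * m ∧ ¬ q ∣ m ∧ 0 < kk x m := by
    intro q m₀ hq hG hm₀ hqn
    obtain ⟨m, rfl⟩ := hqn
    obtain ⟨x, hx⟩ := exists_elt (G := G) (q := q) (by rw [H.card, hG]; exact dvd_mul_right _ _)
    have hqm : ¬ q ∣ m := fun h => hm₀ (h.trans
      (Nat.dvd_of_mul_dvd_mul_left hq.out.pos (hG ▸ hdvd)))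
    have hm : 0 < m := Nat.pos_of_ne_zero fun h => by simp [h] at hdvd
    refine ⟨x, hx, m, rfl, hqm, ?_⟩
    have h1 := cnt_mul (H.card_eq hG) hm₀ hm hqm hx
    rw [h1] at hn
    exact Nat.pos_of_mul_pos_left hn
  have h5 : ¬ 5 ∣ n := fun h => hknown (by
    obtain ⟨x, hx, m, rfl, hm5, hk⟩ := hstep 5 48964608 (by norm_num) (by norm_num) h
    rcases (H.five hx).2.2.2 m hk hm5 with rfl | rfl | rfl <;> decide)
  have h7 : ¬ 7 ∣ n := fun h => hknown (by
    obtain ⟨x, hx, m, rfl, hm7, hk⟩ := hstep 7 34974720 (by norm_num) (by norm_num) h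
    rcases (H.seven hx).2.2.2 m hk hm7 with rfl | rfl | rfl <;> decide)
  have hbig : ∀ q m₀ : ℕ, [Fact q.Prime] → 244823040 = q * m₀ → ¬ q ∣ m₀ → q ∣ n → n ≠ q →
      (∀ x : G, orderOf x = q → Nat.card (centralizer ({x} : Set G)) = q) → False := by
    intro q m₀ hq hG hm₀ hqn hne hC
    obtain ⟨x, hx, m, rfl, hmq, hk⟩ := hstep q m₀ hG hm₀ hqn
    rw [kk, Nat.card_pos_iff] at hk
    obtain ⟨⟨c, hc, rfl⟩⟩ := hk.1
    have hd := Subgroup.orderOf_dvd_natCard _ (mem_centralizer_singleton_iff.2 hc.symm.eq :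
      c ∈ centralizer ({x} : Set G))
    rw [hC x hx] at hd
    rcases hq.out.eq_one_or_self_of_dvd _ hd with e | e
    · exact hne (by rw [e, mul_one])
    · exact hmq (by rw [e])
  have h11 : ¬ 11 ∣ n := fun h =>
    hbig 11 22256640 (by norm_num) (by norm_num) h (fun e => hknown (by rw [e]; decide)) fun x hx => H.C11 hx
  have h23 : ¬ 23 ∣ n := fun h =>
    hbig 23 10644480 (by norm_num) (by norm_num) h (fun e => hknown (by rw [e]; decide)) fun x hx => H.C23 hx
  refine Or.inr ⟨?_, ?_⟩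
  · have hp : ∀ p : ℕ, p.Prime → ¬ p ∣ n → Nat.Coprime n p := fun p hp h =>
      ((hp.coprime_iff_not_dvd).2 h).symm
    refine (Nat.Coprime.dvd_of_dvd_mul_right ?_ (show n ∣ 27648 * 8855 from hdvd))
    rw [show 8855 = 5 * (7 * (11 * 23)) from rfl]
    exact (hp 5 (by norm_num) h5).mul_right ((hp 7 (by norm_num) h7).mul_right
      ((hp 11 (by norm_num) h11).mul_right (hp 23 (by norm_num) h23)))
  · have hk : ∀ a v, cnt G a = v → a ∈ [1, 2, 3, 5, 7, 10, 11, 14, 15, 21, 23] → cnt G n ≠ v :=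
      fun a v e ha h => hknown (H.unique hn (h.trans e.symm) ▸ ha)
    obtain ⟨x5, hx5⟩ := exists_elt (G := G) (q := 5) (by rw [H.card]; norm_num)
    obtain ⟨x7, hx7⟩ := exists_elt (G := G) (q := 7) (by rw [H.card]; norm_num)
    have g5 := H.card_eq (show 244823040 = 5 * 48964608 by norm_num)
    have g7 := H.card_eq (show 244823040 = 7 * 34974720 by norm_num)
    have e10 : cnt G 10 = 12241152 := by
      rw [show 10 = 5 * 2 from rfl, cnt_mul g5 (by norm_num) (by norm_num) (by norm_num) hx5, H.cnt5,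
        (H.five hx5).2.1]
    have e15 : cnt G 15 = 32643072 := by
      rw [show 15 = 5 * 3 from rfl, cnt_mul g5 (by norm_num) (by norm_num) (by norm_num) hx5, H.cnt5,
        (H.five hx5).2.2.1]
    have e14 : cnt G 14 = 34974720 := by
      rw [show 14 = 7 * 2 from rfl, cnt_mul g7 (by norm_num) (by norm_num) (by norm_num) hx7, H.cnt7,
        (H.seven hx7).2.1]
    have e21 : cnt G 21 = 23316480 := by
      rw [show 21 = 7 * 3 from rfl, cnt_mul g7 (by norm_num) (by norm_num) (by norm_num) hx7, H.cnt7,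
        (H.seven hx7).2.2.1]
    have := H.mem hn
    simp only [V, List.mem_cons, List.not_mem_nil, or_false] at this ⊢
    have := hk 1 _ cnt_one (by decide)
    have := hk 2 _ H.cnt_two (by decide)
    have := hk 3 _ H.cnt_three (by decide)
    have := hk 5 _ H.cnt5 (by decide)
    have := hk 7 _ H.cnt7 (by decide)
    have := hk 10 _ e10 (by decide)
    have := hk 11 _ H.cnt11 (by decide)
    have := hk 14 _ e14 (by decide)
    have := hk 15 _ e15 (by decide)
    have := hk 21 _ e21 (by decide)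
    have := hk 23 _ H.cnt23 (by decide)
    omega

end Hyp

end Cfsg.Agent.M24Order.Count
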