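import Cfsg.Agent.Lib.SmallSimple.Order6048.Chars
import Cfsg.Agent.Lib.M22Order.LocalTools

/-!
# A simple group of order 48384: three divides the size of every class of involutions

The principal block at seven has one of three patterns of degrees; one of them has no values at an
involution, and in the other two a central character is integral only if three divides the class.
-/

set_option autoImplicit false
set_option linter.style.haveILetI false
set_option linter.unusedSectionVars false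
set_option maxRecDepth 100000

namespace Cfsg.Agent.M24Order.Count.Block

open Subgroup Cfsg.Agent.Characters Cfsg.Agent.Blocks Cfsg.Agent.PrimeBlock Cfsg.Agent.SmallSimple
open Cfsg.Agent.SmallSimple.Order6048 (ways)

universe u

theorem degree_spec : ∀ a ∈ ([-6, 8, -27, 36, -48, 64, -216] : List ℤ),
    ∀ b ∈ ([-6, 8, -27, 36, -48, 64, -216] : List ℤ),
    ∀ c ∈ ([3, -4, -18, 24, -32, 108, -144, 192] : List ℤ), 1 + (a + b) = c →
      (a = 8 ∧ b = -6 ∨ a = -6 ∧ b = 8) ∧ c = 3 ∨ (a = 8 ∧ b = -27 ∨ a = -27 ∧ b = 8) ∧ c = -18 ∨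
      (a = -6 ∧ b = -27 ∨ a = -27 ∧ b = -6) ∧ c = -32 := by decide +kernel

theorem signed_spec : ∀ d ∈ List.range 220, d ∣ 6912 → 1 < d → ∀ s ∈ [(1 : ℤ), -1],
    (7 : ℤ) ∣ s - (d : ℤ) → (s * d) ∈ ([-6, 8, -27, 36, -48, 64, -216] : List ℤ) := by decide +kernel

theorem signed_spec' : ∀ d ∈ List.range 220, d ∣ 6912 → ∀ s ∈ [(1 : ℤ), -1],
    (7 : ℤ) ∣ s * 3 - (d : ℤ) → (s * d) ∈ ([3, -4, -18, 24, -32, 108, -144, 192] : List ℤ) := by
  decide +kernel

variable {G : Type u} [Group G] [Finite G]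

/-- The class size times the value is divisible by the degree. -/
theorem dvd_class_mul (χ : Cfsg.IrrCharacter G) (g : G) {v : ℤ} (hv : (χ : G → ℂ) g = (v : ℂ)) :
    (deg χ : ℤ) ∣ (Nat.card {y : G // IsConj g y} : ℤ) * v := by
  classical
  haveI := Fintype.ofFinite G
  obtain ⟨n, ρ, hρ, hchar⟩ := χ.2
  set S : Finset G := Finset.univ.filter fun y => IsConj g y with hS
  have h := central_char_isIntegral ρ S fun a b ha => by
    rw [hS, Finset.mem_filter] at ha ⊢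
    exact ⟨Finset.mem_univ _, ha.2.trans (isConj_iff.2 ⟨b, rfl⟩)⟩
  have hval : ∀ y ∈ S, ρ.character y = (v : ℂ) := by
    intro y hy
    obtain ⟨a, rfl⟩ := isConj_iff.1 (Finset.mem_filter.1 hy).2
    rw [hchar, irr_isClassFunction χ g a, hv]
  have hdeg : (Module.finrank ℂ (Fin n → ℂ) : ℂ) = (deg χ : ℂ) := by
    rw [deg_cast, ← hchar, ρ.char_one]
  rw [Finset.sum_congr rfl hval, Finset.sum_const, nsmul_eq_mul, hdeg,
    show S.card = Nat.card {y : G // IsConj g y} by rw [Nat.card_eq_fintype_card, Fintype.card_subtype]] at h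
  have hd0 : deg χ ≠ 0 := (charDegree_pos χ).ne'
  obtain ⟨w, hw⟩ := exists_int_of_isIntegral_ratCast
    (q := (((Nat.card {y : G // IsConj g y} : ℤ) * v : ℤ) : ℚ) / (deg χ : ℚ)) (by push_cast; exact h)
  push_cast at hw
  rw [div_eq_iff (Nat.cast_ne_zero.2 hd0)] at hw
  refine ⟨w, ?_⟩
  have : (((Nat.card {y : G // IsConj g y} : ℤ) * v : ℤ) : ℂ) = ((w * (deg χ : ℤ) : ℤ) : ℂ) := by
    push_cast; exact hw
  rw [Int.cast_inj] at this
  rw [this, mul_comm]

/-- **Three divides the number of conjugates of an involution.** -/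
theorem three_dvd_class [IsSimpleGroup G] (hG : Nat.card G = 48384) {x : G} (hx : orderOf x = 7)
    (hCx : Nat.card (centralizer ({x} : Set G)) = 7)
    (hNx : Nat.card (normalizer (zpowers x : Set G)) = 21) {i : G} (hi : orderOf i = 2) :
    3 ∣ Nat.card {y : G // IsConj i y} := by
  classical
  haveI : Fact (Nat.Prime 7) := ⟨by norm_num⟩
  have hnc : ¬ IsMulCommutative G := Basic.not_comm_of_not_prime (by rw [hG]; norm_num)
  obtain ⟨P₀⟩ : Nonempty (Sylow 7 G) := inferInstance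
  have hP₀ : Nat.card (P₀ : Subgroup G) = 7 := by
    rw [Basic.card_sylow_eq_pow (a := 1) (m := 6912) (by rw [hG]; norm_num) (by norm_num) P₀, pow_one]
  let P : Sylow 7 G := Sylow.ofCard (zpowers x) (by
    rw [Nat.card_zpowers, hx, ← P₀.card_eq_multiplicity, hP₀])
  have hPz : (P : Subgroup G) = zpowers x := by rw [Sylow.coe_ofCard]
  have hP : Nat.card (P : Subgroup G) = 7 := by rw [hPz, Nat.card_zpowers, hx]
  have hC : Nat.card (centralizer ((P : Subgroup G) : Set G)) = 7 := by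
    rw [hPz, show centralizer (zpowers x : Set G) = centralizer ({x} : Set G) by
      rw [zpowers_eq_closure, centralizer_closure], hCx]
  have hN : Nat.card (normalizer ((P : Subgroup G) : Set G)) = 21 := by rw [hPz, hNx]
  obtain ⟨D, ht, hts⟩ := exists_pblock' hnc (by norm_num) P hP
  have he : D.e = 3 := by
    have h := relIndex_mul_relIndex ⊥ (centralizer ((P : Subgroup G) : Set G))
      (normalizer ((P : Subgroup G) : Set G)) bot_le (centralizer_le_normalizer _)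
    rw [relIndex_bot_left, relIndex_bot_left, D.he, hC, hN] at h
    omega
  obtain ⟨χ, ψ, hχψ, hX'⟩ := Finset.card_eq_two.1 (show (D.X.erase (trivIrr G)).card = 2 by
    rw [Finset.card_erase_of_mem ht, D.card_X, he])
  have hX : D.X = insert (trivIrr G) {χ, ψ} := by rw [← hX', Finset.insert_erase ht]
  obtain ⟨θ, hθ⟩ := D.Y_nonempty
  obtain ⟨hχ1, hχX⟩ := Finset.mem_erase.1 (show χ ∈ D.X.erase (trivIrr G) by rw [hX']; simp)
  obtain ⟨hψ1, hψX⟩ := Finset.mem_erase.1 (show ψ ∈ D.X.erase (trivIrr G) by rw [hX']; simp)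
  have hθ1 : θ ≠ trivIrr G := fun e => Finset.disjoint_left.1 D.disj ht (e ▸ hθ)
  have hdiv : ∀ ξ : Cfsg.IrrCharacter G, ξ ∈ Cfsg.principalBlock D.M G → deg ξ ∣ 6912 := by
    intro ξ hξ
    have h1 : deg ξ ∣ 48384 := hG ▸ char_degree_dvd_card ξ
    exact ((Nat.Prime.coprime_iff_not_dvd (by norm_num)).2 (D.not_dvd_deg hξ)).symm.dvd_of_dvd_mul_left
      (show deg ξ ∣ 7 * 6912 from h1)
  have hlt : ∀ ξ : Cfsg.IrrCharacter G, ξ ≠ trivIrr G → deg ξ ∈ List.range 220 := by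
    intro ξ hξ
    have h1 := deg_sq_lt (G := G) hξ
    rw [hG] at h1
    rw [List.mem_range]
    nlinarith
  have hs : ∀ ξ ∈ D.X, ξ ≠ trivIrr G →
      D.sgn ξ * (deg ξ : ℤ) ∈ ([-6, 8, -27, 36, -48, 64, -216] : List ℤ) := by
    intro ξ hξ hξ1
    refine signed_spec _ (hlt ξ hξ1) (hdiv ξ ((D.mem_block ξ).2 (Or.inl hξ))) ?_ _
      (by rcases D.sgn_eq ξ hξ with e | e <;> simp [e]) (Int.modEq_iff_dvd.1 (D.deg_X ξ hξ))
    have := deg_ne_one hnc hξ1
    have : 0 < deg ξ := charDegree_pos ξ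
    omega
  have hs' : D.ε * (deg θ : ℤ) ∈ ([3, -4, -18, 24, -32, 108, -144, 192] : List ℤ) := by
    refine signed_spec' _ (hlt θ hθ1) (hdiv θ ((D.mem_block θ).2 (Or.inr hθ))) _
      (by rcases D.ε_eq with e | e <;> simp [e]) ?_
    have := Int.modEq_iff_dvd.1 (D.deg_Y θ hθ)
    rwa [he] at this
  have hrel1 : 1 + (D.sgn χ * (deg χ : ℤ) + D.sgn ψ * (deg ψ : ℤ)) = D.ε * (deg θ : ℤ) := by
    rw [D.rel_one hθ, hX, Finset.sum_insert (by simp [hχ1.symm, hψ1.symm]), Finset.sum_pair hχψ, hts,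
      deg_trivIrr]
    simp
  obtain ⟨A, B, hA1, hB1, hAB, hXAB, hcase⟩ : ∃ A B : Cfsg.IrrCharacter G,
      A ≠ trivIrr G ∧ B ≠ trivIrr G ∧ A ≠ B ∧ D.X = insert (trivIrr G) {A, B} ∧
      (D.sgn A * (deg A : ℤ) = 8 ∧ D.sgn B * (deg B : ℤ) = -6 ∧ D.ε * (deg θ : ℤ) = 3 ∨
       D.sgn A * (deg A : ℤ) = 8 ∧ D.sgn B * (deg B : ℤ) = -27 ∧ D.ε * (deg θ : ℤ) = -18 ∨
       D.sgn A * (deg A : ℤ) = -6 ∧ D.sgn B * (deg B : ℤ) = -27 ∧ D.ε * (deg θ : ℤ) = -32) := by
    rcases degree_spec _ (hs χ hχX hχ1) _ (hs ψ hψX hψ1) _ hs' hrel1 with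
      ⟨⟨a, b⟩ | ⟨a, b⟩, c⟩ | ⟨⟨a, b⟩ | ⟨a, b⟩, c⟩ | ⟨⟨a, b⟩ | ⟨a, b⟩, c⟩
    · exact ⟨χ, ψ, hχ1, hψ1, hχψ, hX, Or.inl ⟨a, b, c⟩⟩
    · exact ⟨ψ, χ, hψ1, hχ1, hχψ.symm, by rw [hX, Finset.pair_comm], Or.inl ⟨b, a, c⟩⟩
    · exact ⟨χ, ψ, hχ1, hψ1, hχψ, hX, Or.inr (Or.inl ⟨a, b, c⟩)⟩
    · exact ⟨ψ, χ, hψ1, hχ1, hχψ.symm, by rw [hX, Finset.pair_comm], Or.inr (Or.inl ⟨b, a, c⟩)⟩
    · exact ⟨χ, ψ, hχ1, hψ1, hχψ, hX, Or.inr (Or.inr ⟨a, b, c⟩)⟩
    · exact ⟨ψ, χ, hψ1, hχ1, hχψ.symm, by rw [hX, Finset.pair_comm], Or.inr (Or.inr ⟨b, a, c⟩)⟩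
  have hmA : A ∈ D.X := by rw [hXAB]; simp
  have hmB : B ∈ D.X := by rw [hXAB]; simp
  have hsplit : ∀ {s : ℤ} {d : ℕ} {z : ℤ}, (s = 1 ∨ s = -1) → s * (d : ℤ) = z →
      (0 < z → s = 1 ∧ d = z.natAbs) ∧ (z < 0 → s = -1 ∧ d = z.natAbs) := by
    rintro s d z (rfl | rfl) rfl <;> refine ⟨fun h => ?_, fun h => ?_⟩ <;> omega
  have hthree : ∀ (ξ : Cfsg.IrrCharacter G) (v : ℤ), (ξ : G → ℂ) i = (v : ℂ) → 3 ∣ deg ξ →
      ¬ (3 : ℤ) ∣ v → 3 ∣ Nat.card {y : G // IsConj i y} := by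
    intro ξ v hv h3 hv3
    have h := (Int.natCast_dvd_natCast.2 h3).trans (dvd_class_mul ξ i hv)
    rcases (Int.prime_three).dvd_or_dvd h with h | h
    · exact_mod_cast h
    · exact absurd h hv3
  rcases hcase with ⟨eA, eB, eθ⟩ | ⟨eA, eB, eθ⟩ | ⟨eA, eB, eθ⟩
  · obtain ⟨-, dθ⟩ := (hsplit D.ε_eq eθ).1 (by norm_num)
    norm_num at dθ
    obtain ⟨v, hv, hv4, hvlt⟩ := involution_value hnc hθ1 hi
    rw [dθ, abs_lt] at hvlt
    rw [dθ] at hv4
    exact hthree θ v hv (by rw [dθ]) (by omega)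
  · exfalso
    obtain ⟨sA, dA⟩ := (hsplit (D.sgn_eq A hmA) eA).1 (by norm_num)
    obtain ⟨sB, dB⟩ := (hsplit (D.sgn_eq B hmB) eB).2 (by norm_num)
    obtain ⟨sθ, dθ⟩ := (hsplit D.ε_eq eθ).2 (by norm_num)
    norm_num at dA dB dθ
    have ht7 : ¬ 7 ∣ orderOf i := by rw [hi]; norm_num
    obtain ⟨a, ha, ha4, halt⟩ := involution_value hnc hA1 hi
    obtain ⟨b, hb, hb4, hblt⟩ := involution_value hnc hB1 hi
    rw [dA] at ha4 halt
    rw [dB] at hb4 hblt
    have hθt : (θ : G → ℂ) i = ((b - a - 1 : ℤ) : ℂ) := by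
      have := D.rel θ hθ i ht7
      rw [hXAB, Finset.sum_insert (by simp [hA1.symm, hB1.symm]), Finset.sum_pair hAB, hts, sA, sB, sθ,
        ha, hb] at this
      simp only [trivIrr_coe] at this
      push_cast at this ⊢
      linear_combination -this
    have hxP : x ∈ (P : Subgroup G) := by rw [hPz]; exact mem_zpowers x
    have hx1 : x ≠ 1 := fun e => by simp [e] at hx
    have h0 : ways i i x = 0 := by
      rw [ways, Nat.card_eq_zero]
      refine Or.inl ⟨fun q => ?_⟩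
      obtain ⟨⟨a', b'⟩, ha', hb', hab⟩ := q
      have oa : orderOf a' = 2 := by rw [Order6048.orderOf_of_isConj ha', hi]
      have ob : orderOf b' = 2 := by rw [Order6048.orderOf_of_isConj hb', hi]
      have ea : a'⁻¹ = a' := inv_eq_of_mul_eq_one_right (by rw [← pow_two, ← oa, pow_orderOf_eq_one])
      have eb : b'⁻¹ = b' := inv_eq_of_mul_eq_one_right (by rw [← pow_two, ← ob, pow_orderOf_eq_one])
      have hab' : a' * b' = x := hab
      have hinv : a' * x * a'⁻¹ = x⁻¹ := by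
        rw [← hab', mul_inv_rev, eb, ea, ← mul_assoc, show a' * a' = 1 by rw [← pow_two, ← oa, pow_orderOf_eq_one],
          one_mul]
      have hN' : a' ∈ normalizer (zpowers x : Set G) := by
        refine M22Order.mem_normalizer_of_conj fun y hy => ?_
        obtain ⟨j, rfl⟩ := mem_zpowers_iff.1 hy
        rw [← conj_zpow, hinv]
        exact zpow_mem (inv_mem (mem_zpowers x)) j
      have hd := Subgroup.orderOf_dvd_natCard _ hN'
      rw [oa, hNx] at hd
      norm_num at hd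
    have h := Order6048.ways_eq D hC hθ hxP hx1 ht7 ht7
    rw [h0, hXAB, Finset.sum_insert (by simp [hA1.symm, hB1.symm]), Finset.sum_pair hAB, hts, sA, sB, sθ,
      ha, hb, hθt, dA, dB, dθ, deg_trivIrr, hG] at h
    simp only [trivIrr_coe] at h
    have hz : ((216 + 27 * a ^ 2 - 8 * b ^ 2 + 12 * (b - a - 1) ^ 2 : ℤ) : ℂ) = 0 := by
      push_cast at h ⊢
      linear_combination (-(1 : ℂ) / 224) * h
    rw [abs_lt] at halt hblt
    push_cast at ha4 hb4 halt hblt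
    refine Order6048.no_involution_case a ?_ b ?_ (by exact_mod_cast hz)
    · simp only [List.mem_cons, List.not_mem_nil, or_false]; omega
    · simp only [List.mem_cons, List.not_mem_nil, or_false]; omega
  · obtain ⟨-, dA⟩ := (hsplit (D.sgn_eq A hmA) eA).2 (by norm_num)
    norm_num at dA
    obtain ⟨v, hv, hv4, hvlt⟩ := involution_value hnc hA1 hi
    rw [dA, abs_lt] at hvlt
    rw [dA] at hv4
    exact hthree A v hv (by rw [dA]; norm_num) (by omega)

end Cfsg.Agent.M24Order.Count.Block
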