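import Cfsg.Agent.Lib.M24Order.Count.Basic
import Cfsg.Agent.Lib.Coprime.Sylow

/-!
# Simplicity: a self-centralising subgroup of order 23 acting on the Sylow subgroups of a normal subgroup
-/

set_option autoImplicit false
set_option linter.style.haveILetI false
set_option linter.unusedSectionVars false

namespace Cfsg.Agent.M24Order.Count

open Subgroup

universe u

variable {G : Type u} [Group G] [Finite G]

/-- A self-centralising subgroup of prime order `p` acts freely on a Sylow subgroup of a normal
subgroup of order prime to `p`. -/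
theorem dvd_sylow_sub_one {p r : ℕ} [hp : Fact p.Prime] [Fact r.Prime] {x : G} (hx : orderOf x = p)
    (hC : Nat.card (centralizer ({x} : Set G)) = p) (K : Subgroup G) [K.Normal]
    (hK : ¬ p ∣ Nat.card K) : p ∣ r ^ (Nat.card K).factorization r - 1 := by
  set A := zpowers x
  have hA : Nat.card A = p := by rw [Nat.card_zpowers, hx]
  have hsolv : Group.IsSolvable A := by
    haveI := isCyclic_of_prime_card (p := p) hA
    infer_instance
  obtain ⟨Q, hQ⟩ := Coprime.exists_invariant_sylow r (A := A) (K := K)
    (by rw [normalizer_eq_top]; exact le_top)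
    (by rw [hA]; exact (hp.out.coprime_iff_not_dvd).2 hK) (Or.inl hsolv)
  let Q' : Subgroup G := (Q : Subgroup K).map K.subtype
  have hQc : Nat.card Q' = r ^ (Nat.card K).factorization r := by
    rw [Subgroup.card_subtype, Q.card_eq_multiplicity]
  have hdvd : p ∣ Nat.card ((Q' : Set G) \ {1} : Set G) := by
    refine M22Order.Nse.dvd_card_set
      (IsPGroup.of_card (n := 1) (by rw [hA, pow_one]) : IsPGroup p A) _ ?_ ?_
    · rintro a ha y ⟨hy, hy1⟩
      exact ⟨(mem_normalizer_iff.1 (hQ ha) y).1 hy, fun h => hy1 (by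
        rw [Set.mem_singleton_iff] at h ⊢
        calc y = a⁻¹ * (a * y * a⁻¹) * a := by group
          _ = 1 := by rw [h]; group)⟩
    · rintro y ⟨hy, hy1⟩ hyC
      have hyc : y ∈ centralizer ({x} : Set G) :=
        mem_centralizer_singleton_iff.2 (mem_centralizer_iff.1 hyC x (mem_zpowers x)).symm
      have h1 := Subgroup.orderOf_dvd_natCard _ hyc
      rw [hC] at h1
      rcases hp.out.eq_one_or_self_of_dvd _ h1 with h | h
      · exact hy1 (orderOf_eq_one_iff.1 h)
      · apply hK
        rw [← h]
        exact Subgroup.orderOf_dvd_natCard K (Subgroup.map_subtype_le _ hy)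
  rw [Nat.card_coe_set_eq, Set.ncard_diff_singleton_of_mem Q'.one_mem, ← Nat.card_coe_set_eq] at hdvd
  change p ∣ Nat.card Q' - 1 at hdvd
  rwa [hQc] at hdvd

theorem exp_le {r e : ℕ} (hr : r.Prime) {n o m : ℕ} (hn : n ∣ o) (ho : o = r ^ e * m) (hm : ¬ r ∣ m)
    (hm0 : m ≠ 0) : n.factorization r ≤ e := by
  have hne : o ≠ 0 := ho ▸ Nat.mul_ne_zero (pow_ne_zero _ hr.ne_zero) hm0
  refine (Finsupp.le_def.1 ((Nat.factorization_le_iff_dvd ?_ hne).2 hn) r).trans (le_of_eq ?_)
  · rintro rfl; exact hne (zero_dvd_iff.1 hn)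
  · rw [ho, Nat.factorization_mul (pow_ne_zero _ hr.ne_zero) hm0, Finsupp.add_apply,
      hr.factorization_pow, Finsupp.single_eq_same, Nat.factorization_eq_zero_of_not_dvd hm, add_zero]

namespace Hyp

variable (H : Hyp G)
include H

/-- **A group with the order and counts of M24 is simple.** -/
theorem simple : IsSimpleGroup G := by
  haveI : Fact (Nat.Prime 23) := ⟨by norm_num⟩
  obtain ⟨x, hx⟩ := exists_elt (G := G) (q := 23) (by rw [H.card]; norm_num)
  obtain ⟨P, hP⟩ := exists_sylow_zpowers (H.card_eq (show 244823040 = 23 * 10644480 by norm_num))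
    (by norm_num) hx
  refine isSimple_of_fpf (e := 11) (by norm_num) P (by rw [hP, Nat.card_zpowers, hx]) ?_
    (by rw [H.card]; norm_num) fun K hK h23 => ?_
  · rw [hP, H.N23 hx]
  haveI := hK
  rw [eq_bot_iff_card]
  by_contra hne
  obtain ⟨r, hr, hrK⟩ := Nat.exists_prime_and_dvd hne
  haveI := Fact.mk hr
  have hdK : Nat.card K ∣ 244823040 := H.card ▸ card_subgroup_dvd_card K
  have hd := dvd_sylow_sub_one (p := 23) (r := r) hx (H.C23 hx) K h23
  have hpos : 0 < (Nat.card K).factorization r := hr.factorization_pos_of_dvd Nat.card_pos.ne' hrK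
  have hr' : r ∣ 2 * (3 * (5 * (7 * (11 * 23)))) := by
    have h := hrK.trans (hdK.trans (show 244823040 ∣ (2 * (3 * (5 * (7 * (11 * 23))))) ^ 10 by norm_num))
    exact hr.dvd_of_dvd_pow h
  have hcases : r = 2 ∨ r = 3 ∨ r = 5 ∨ r = 7 ∨ r = 11 := by
    have hpr : ∀ s : ℕ, s.Prime → r ∣ s → r = s := fun s hs h => (Nat.prime_dvd_prime_iff_eq hr hs).1 h
    rcases hr.dvd_mul.1 hr' with h | h
    · exact Or.inl (hpr 2 Nat.prime_two h)
    rcases hr.dvd_mul.1 h with h | h
    · exact Or.inr (Or.inl (hpr 3 Nat.prime_three h))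
    rcases hr.dvd_mul.1 h with h | h
    · exact Or.inr (Or.inr (Or.inl (hpr 5 (by norm_num) h)))
    rcases hr.dvd_mul.1 h with h | h
    · exact Or.inr (Or.inr (Or.inr (Or.inl (hpr 7 (by norm_num) h))))
    rcases hr.dvd_mul.1 h with h | h
    · exact Or.inr (Or.inr (Or.inr (Or.inr (hpr 11 (by norm_num) h))))
    · exact absurd (hpr 23 (by norm_num) h ▸ hrK) h23
  rcases hcases with rfl | rfl | rfl | rfl | rfl
  · have := exp_le Nat.prime_two hdK (show 244823040 = 2 ^ 10 * 239085 by norm_num) (by norm_num) (by norm_num)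
    generalize (Nat.card K).factorization 2 = k at hd hpos this
    interval_cases k <;> norm_num at hd
  · have := exp_le Nat.prime_three hdK (show 244823040 = 3 ^ 3 * 9067520 by norm_num) (by norm_num) (by norm_num)
    generalize (Nat.card K).factorization 3 = k at hd hpos this
    interval_cases k <;> norm_num at hd
  · have := exp_le Fact.out hdK (show 244823040 = 5 ^ 1 * 48964608 by norm_num) (by norm_num) (by norm_num)
    generalize (Nat.card K).factorization 5 = k at hd hpos this
    interval_cases k <;> norm_num at hd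
  · have := exp_le Fact.out hdK (show 244823040 = 7 ^ 1 * 34974720 by norm_num) (by norm_num) (by norm_num)
    generalize (Nat.card K).factorization 7 = k at hd hpos this
    interval_cases k <;> norm_num at hd
  · have := exp_le Fact.out hdK (show 244823040 = 11 ^ 1 * 22256640 by norm_num) (by norm_num) (by norm_num)
    generalize (Nat.card K).factorization 11 = k at hd hpos this
    interval_cases k <;> norm_num at hd

end Hyp

end Cfsg.Agent.M24Order.Count
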