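import Cfsg.Agent.Lib.M24Order.Count.Involutions
import Cfsg.Agent.Lib.M24Order.Count.Simple
import Cfsg.Agent.Lib.M24Order.Count.Block
import Cfsg.Agent.Lib.SmallSimple.Orders1092
import Cfsg.Agent.Lib.Cores.Basic

/-!
# No involution has a centraliser of order 96768

Its quotient by the largest normal 2-subgroup would be simple of order 756 or 6048, both impossible, or
of order 48384; then no involution of the quotient centralises a subgroup of order 27, against an
involution of the third class doing so.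
-/

set_option autoImplicit false
set_option linter.style.haveILetI false
set_option linter.unusedSectionVars false
set_option maxRecDepth 40000

namespace Cfsg.Agent.M24Order.Count

open Subgroup

universe u

local instance fact7x : Fact (Nat.Prime 7) := ⟨by norm_num⟩

theorem two_pow_mod_seven : ∀ j < 10, 2 ^ j % 7 = 2 → j = 1 ∨ j = 4 ∨ j = 7 := by decide +kernel

section Quot

variable {C : Type u} [Group C] [Finite C] (Q : Subgroup C) [Q.Normal] {u : C}

theorem orderOf_mk_seven (hu : orderOf u = 7) (hQu : u ∉ Q) : orderOf (QuotientGroup.mk' Q u) = 7 := by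
  refine orderOf_eq_prime ?_ fun e => hQu ((QuotientGroup.eq_one_iff u).1 e)
  rw [← map_pow, ← hu, pow_orderOf_eq_one, map_one]

/-- The normaliser of a subgroup of order seven maps onto the one in the quotient. -/
theorem map_normalizer_seven (hu : orderOf u = 7) (hQu : u ∉ Q) (hQ : ¬ 7 ∣ Nat.card Q) :
    (normalizer (zpowers u : Set C)).map (QuotientGroup.mk' Q) =
      normalizer (zpowers (QuotientGroup.mk' Q u) : Set (C ⧸ Q)) := by
  set π := QuotientGroup.mk' Q
  have hsurj : Function.Surjective π := QuotientGroup.mk'_surjective Q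
  refine le_antisymm ?_ ?_
  · rintro _ ⟨a, ha, rfl⟩
    refine M22Order.mem_normalizer_of_conj fun y hy => ?_
    obtain ⟨j, rfl⟩ := mem_zpowers_iff.1 hy
    rw [← conj_zpow, ← map_inv, ← map_mul, ← map_mul]
    obtain ⟨k, hk⟩ := mem_zpowers_iff.1 ((mem_normalizer_iff.1 ha u).1 (mem_zpowers u))
    rw [← hk, map_zpow]
    exact zpow_mem (zpow_mem (mem_zpowers _) k) j
  · intro k hk
    obtain ⟨a, rfl⟩ := hsurj k
    set M := (zpowers (π u)).comap π with hM
    have hMc : Nat.card M = 7 * Nat.card Q := by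
      have h1 : M.index = (zpowers (π u)).index := index_comap_of_surjective _ hsurj
      have h2 := card_mul_index M
      have h3 := card_mul_index (zpowers (π u))
      have h4 := card_mul_index Q
      rw [Nat.card_zpowers, orderOf_mk_seven Q hu hQu, ← index_eq_card Q] at h3
      rw [h1] at h2
      have hpos : 0 < (zpowers (π u)).index := Nat.pos_of_ne_zero index_ne_zero_of_finite
      refine Nat.eq_of_mul_eq_mul_right hpos ?_
      rw [h2, ← h4, ← h3]; ring
    have huM : u ∈ M := mem_comap.2 (mem_zpowers _)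
    have hauM : a * u * a⁻¹ ∈ M := mem_comap.2 (by
      rw [map_mul, map_mul, map_inv]
      exact (mem_normalizer_iff.1 hk _).1 (mem_zpowers _))
    obtain ⟨⟨m, hm⟩, hmz⟩ := exists_conj (G := M) (q := 7) (m₀ := Nat.card Q) hMc hQ
      (x := ⟨u, huM⟩) (y := ⟨a * u * a⁻¹, hauM⟩) (by rw [Subgroup.orderOf_mk, hu])
      (by rw [Subgroup.orderOf_mk]; exact (M22Order.orderOf_conj a u).trans hu)
    have hz' : zpowers (m * u * m⁻¹) = zpowers (a * u * a⁻¹) := by
      have := congrArg (fun K : Subgroup M => K.map M.subtype) hmz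
      simpa [MonoidHom.map_zpowers] using this
    have hn : m⁻¹ * a ∈ normalizer (zpowers u : Set C) := by
      refine M22Order.mem_normalizer_of_conj fun y hy => ?_
      obtain ⟨j, rfl⟩ := mem_zpowers_iff.1 hy
      obtain ⟨l, hl⟩ := mem_zpowers_iff.1
        (show a * u * a⁻¹ ∈ zpowers (m * u * m⁻¹) from hz' ▸ mem_zpowers _)
      rw [← conj_zpow]
      refine zpow_mem ?_ j
      rw [show m⁻¹ * a * u * (m⁻¹ * a)⁻¹ = m⁻¹ * (a * u * a⁻¹) * m by group, ← hl, conj_zpow,
        show m⁻¹ * (m * u ^ l * m⁻¹) * m = u ^ l by group]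
      exact zpow_mem (mem_zpowers u) l
    obtain ⟨i, hi⟩ := mem_zpowers_iff.1 (mem_comap.1 hm)
    refine ⟨u ^ i * (m⁻¹ * a), mul_mem (zpow_mem (le_normalizer (mem_zpowers u)) i) hn, ?_⟩
    rw [map_mul, map_zpow, hi, map_mul, map_inv, mul_inv_cancel_left]

end Quot

/-- No quotient of order 48384. -/
theorem no_48384 {C : Type u} [Group C] [Finite C] {z u : C} (Q : Subgroup C) [Q.Normal]
    [IsSimpleGroup (C ⧸ Q)] (hK : Nat.card (C ⧸ Q) * 2 ^ 1 = 96768) (hj : Nat.card Q = 2 ^ 1)
    (hz : orderOf z = 2) (hzQ : zpowers z ≤ Q) (hu' : orderOf (QuotientGroup.mk' Q u) = 7)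
    (hCK : Nat.card (centralizer ({QuotientGroup.mk' Q u} : Set (C ⧸ Q))) = 7)
    (hNK : Nat.card (normalizer (zpowers (QuotientGroup.mk' Q u) : Set (C ⧸ Q))) = 21)
    (R : Subgroup C) (hR : Nat.card R = 27)
    {y : C} {k : ℕ} (hy : orderOf y = 2 ^ k) (hyz : y ∉ zpowers z) (hyR : ∀ r ∈ R, Commute y r) :
    False := by
  set π := QuotientGroup.mk' Q
  have hQz : Q = zpowers z := (eq_of_le_of_card_ge hzQ (by rw [hj, Nat.card_zpowers, hz, pow_one])).symm
  have hyQ : π y ≠ 1 := fun h => hyz (hQz ▸ (QuotientGroup.eq_one_iff y).1 h)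
  obtain ⟨m, hm, hmo⟩ := (Nat.dvd_prime_pow Nat.prime_two).1 (show orderOf (π y) ∣ 2 ^ k from hy ▸ orderOf_map_dvd π y)
  have hm0 : m ≠ 0 := fun h => hyQ (orderOf_eq_one_iff.1 (by rw [hmo, h, pow_zero]))
  set i := π y ^ 2 ^ (m - 1)
  have hi : orderOf i = 2 := by
    rw [orderOf_pow_of_dvd (by positivity) (by rw [hmo]; exact pow_dvd_pow 2 (by omega)), hmo,
      Nat.pow_div (by omega) (by norm_num), show m - (m - 1) = 1 by omega, pow_one]
  have h3 := Block.three_dvd_class (G := C ⧸ Q) (by omega) hu' hCK hNK hi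
  have hmul := SmallSimple.Basic.card_centralizer_mul_card_class i
  have hRi : R.map π ≤ centralizer ({i} : Set (C ⧸ Q)) := by
    rintro _ ⟨r, hr, rfl⟩
    exact mem_centralizer_singleton_iff.2 (((hyR r hr).map π).pow_left (2 ^ (m - 1))).symm.eq
  have hRc : Nat.card (R.map π) = 27 := by
    set f := π.comp R.subtype
    have hr : f.range = R.map π := by rw [MonoidHom.range_comp, range_subtype]
    have hinj : Function.Injective f := by
      rw [← MonoidHom.ker_eq_bot_iff, eq_bot_iff]
      intro r hr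
      have h1 := Subgroup.orderOf_dvd_natCard Q ((QuotientGroup.eq_one_iff (r : C)).1 hr)
      have h2 := Subgroup.orderOf_dvd_natCard R r.2
      rw [hj] at h1
      rw [hR] at h2
      have h := Nat.dvd_gcd h1 h2
      norm_num at h
      exact mem_bot.2 h
    rw [← hr, ← hR]
    exact (Nat.card_congr (MonoidHom.ofInjective hinj).toEquiv).symm
  obtain ⟨a, ha⟩ := hRc ▸ card_dvd_of_le hRi
  obtain ⟨b, hb⟩ := h3
  rw [ha, hb] at hmul
  have h81 : 81 ∣ Nat.card (C ⧸ Q) := ⟨a * b, by rw [← hmul]; ring⟩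
  rw [show Nat.card (C ⧸ Q) = 48384 by omega] at h81
  norm_num at h81

/-- No quotient of order 6048: `Q/<z>` would have only eight elements to act on. -/
theorem no_6048 {C : Type u} [Group C] [Finite C] (hC : Nat.card C = 96768) {z u : C}
    (hz : orderOf z = 2) (hzc : ∀ c, Commute z c) (hu : orderOf u = 7) (Q : Subgroup C) [Q.Normal]
    [(zpowers z).Normal] [IsSimpleGroup (C ⧸ Q)] (hj : Nat.card Q = 2 ^ 4) (hzQ : zpowers z ≤ Q)
    (hQC : Q ⊓ centralizer ({u} : Set C) = zpowers z)
    (hu' : orderOf (QuotientGroup.mk' Q u) = 7) :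
    False := by
  set π := QuotientGroup.mk' Q
  let Z := zpowers z
  let Qb : Subgroup (C ⧸ Z) := Q.map (QuotientGroup.mk' Z)
  haveI : Qb.Normal := (inferInstance : Q.Normal).map _ (QuotientGroup.mk'_surjective Z)
  have hQb : Nat.card Qb = 8 := by
    set f := (QuotientGroup.mk' Z).comp Q.subtype
    have hr : f.range = Qb := by rw [MonoidHom.range_comp, range_subtype]
    have h1 := card_mul_index f.ker
    rw [index_ker, hr, hj] at h1
    have h2 : Nat.card f.ker = 2 := by
      rw [← Subgroup.card_subtype, show f.ker.map Q.subtype = Z by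
        rw [show f.ker = Z.subgroupOf Q by rw [← MonoidHom.comap_ker, QuotientGroup.ker_mk']; rfl,
          subgroupOf_map_subtype, inf_eq_left.2 hzQ], Nat.card_zpowers, hz]
    rw [h2] at h1
    omega
  let ψ : C →* Equiv.Perm Qb :=
    (MulAction.toPermHom (MulAut Qb) Qb).comp ((MulAut.conjNormal).comp (QuotientGroup.mk' Z))
  have hψ : ∀ (c : C) (q : Qb), ((ψ c q : Qb) : C ⧸ Z) =
      QuotientGroup.mk' Z c * q * (QuotientGroup.mk' Z c)⁻¹ := fun c q => by
    show ((MulAut.conjNormal (QuotientGroup.mk' Z c) q : Qb) : C ⧸ Z) = _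
    rw [MulAut.conjNormal_apply]
  set L := ψ.ker with hL
  have h8 : L.index ∣ 40320 := by
    rw [hL, index_ker]
    refine (card_subgroup_dvd_card _).trans ?_
    haveI := Fintype.ofFinite Qb
    rw [Nat.card_eq_fintype_card, Fintype.card_perm, ← Nat.card_eq_fintype_card, hQb]
    norm_num [Nat.factorial]
  have hLdvd : ¬ L ≤ Q := fun h => by
    have h1 : Nat.card L ∣ 16 := (show 2 ^ 4 = 16 from rfl) ▸ hj ▸ card_dvd_of_le h
    obtain ⟨a, ha⟩ := h1
    obtain ⟨b, hb⟩ := h8
    have := card_mul_index L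
    rw [hC] at this
    have hd : 96768 ∣ 16 * 40320 := ⟨a * b, by rw [← this, ha, hb]; ring⟩
    norm_num at hd
  have htop : L.map π = ⊤ := by
    refine ((MonoidHom.normal_ker ψ).map π (QuotientGroup.mk'_surjective Q)).eq_bot_or_eq_top.resolve_left
      fun h => hLdvd ?_
    rw [Subgroup.map_eq_bot_iff, QuotientGroup.ker_mk'] at h
    exact h
  have h7L : 7 ∣ Nat.card L := by
    have h7 : 7 ∣ Nat.card (C ⧸ Q) := hu' ▸ orderOf_dvd_natCard _
    rw [← Subgroup.card_top (G := C ⧸ Q), ← htop] at h7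
    exact h7.trans (Subgroup.card_map_dvd L π)
  obtain ⟨⟨x, hxL⟩, hx⟩ := exists_prime_orderOf_dvd_card' (G := L) 7 h7L
  rw [Subgroup.orderOf_mk] at hx
  obtain ⟨g, hg⟩ := exists_conj (G := C) (q := 7) (m₀ := 13824) (by rw [hC]) (by norm_num) hx hu
  have huL : u ∈ L := by
    have hu2 : u ∈ zpowers (g * x * g⁻¹) := hg ▸ mem_zpowers u
    exact zpowers_le.2 ((MonoidHom.normal_ker ψ).conj_mem x hxL g) hu2
  have hQle : Q ≤ centralizer ({u} : Set C) := by
    intro q hq
    have h1 := hψ u ⟨QuotientGroup.mk' Z q, mem_map_of_mem _ hq⟩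
    rw [MonoidHom.mem_ker.1 huL] at h1
    have h1' : QuotientGroup.mk' Z q = QuotientGroup.mk' Z (u * q * u⁻¹) := by
      rw [map_mul, map_mul, map_inv]; exact h1
    set e := q⁻¹ * (u * q * u⁻¹) with he
    have heZ : e ∈ Z := (QuotientGroup.eq).1 h1'
    have he2 : e ^ 2 = 1 := by
      have := Subgroup.orderOf_dvd_natCard Z heZ
      rw [Nat.card_zpowers, hz] at this
      exact orderOf_dvd_iff_pow_eq_one.1 this
    have heu : Commute u e := by
      obtain ⟨l, hl⟩ := mem_zpowers_iff.1 heZ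
      rw [← hl]; exact ((hzc u).symm).zpow_right l
    have hit : ∀ n : ℕ, u ^ n * q * (u ^ n)⁻¹ = q * e ^ n := by
      intro n
      induction n with
      | zero => simp
      | succ n ih =>
        calc u ^ (n + 1) * q * (u ^ (n + 1))⁻¹ = u * (u ^ n * q * (u ^ n)⁻¹) * u⁻¹ := by
              rw [pow_succ']; group
          _ = u * q * u⁻¹ * (u * e ^ n * u⁻¹) := by rw [ih]; group
          _ = q * e ^ (n + 1) := by
              rw [(heu.pow_right n).eq, mul_inv_cancel_right, pow_succ', ← mul_assoc q e, he,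
                mul_inv_cancel_left]
    have h7 := hit 7
    rw [show u ^ 7 = 1 by rw [← hu]; exact pow_orderOf_eq_one u, one_mul, inv_one, mul_one,
      show e ^ 7 = e by rw [show 7 = 2 * 3 + 1 from rfl, pow_succ, pow_mul, he2, one_pow, one_mul]] at h7
    refine mem_centralizer_singleton_iff.2 (mul_inv_eq_iff_eq_mul.1 ?_).symm
    calc u * q * u⁻¹ = q * e := by rw [he, mul_inv_cancel_left]
      _ = q := h7.symm
  have h16 := card_dvd_of_le (le_inf le_rfl hQle : Q ≤ Q ⊓ centralizer ({u} : Set C))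
  rw [hQC, Nat.card_zpowers, hz, hj] at h16
  norm_num at h16

theorem no_alone {C : Type u} [Group C] [Finite C] (hC : Nat.card C = 96768) {z u : C}
    (hz : orderOf z = 2) (hzc : ∀ c, Commute z c) (hu : orderOf u = 7)
    (hCu : Nat.card (centralizer ({u} : Set C)) = 14)
    (hNu : Nat.card (normalizer (zpowers u : Set C)) = 42) (R : Subgroup C) (hR : Nat.card R = 27)
    {y : C} {k : ℕ} (hy : orderOf y = 2 ^ k) (hyz : y ∉ zpowers z) (hyR : ∀ r ∈ R, Commute y r) :
    False := by
  classical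
  haveI : Fact (Nat.Prime 2) := ⟨Nat.prime_two⟩
  set Q := Cfsg.pCore 2 C
  have hQp : IsPGroup 2 Q := Cores.pCore_isPGroup 2
  haveI hzn : (zpowers z).Normal := ⟨fun a ha g => by
    obtain ⟨i, rfl⟩ := mem_zpowers_iff.1 ha
    rw [((hzc g).zpow_left i).symm.eq, mul_inv_cancel_right]
    exact ha⟩
  have hzQ : zpowers z ≤ Q :=
    Cores.le_pCore (IsPGroup.of_card (n := 1) (by rw [Nat.card_zpowers, hz, pow_one]))
  obtain ⟨j, hj⟩ := IsPGroup.iff_card.1 hQp
  have hj9 : j ≤ 9 := by
    by_contra hlt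
    have h := (pow_dvd_pow 2 (show 10 ≤ j by omega)).trans (hj ▸ hC ▸ card_subgroup_dvd_card Q)
    norm_num at h
  have hQ7 : ¬ 7 ∣ Nat.card Q := by
    rw [hj]; intro h
    have := (Nat.prime_dvd_prime_iff_eq (by norm_num) Nat.prime_two).1
      ((show Nat.Prime 7 by norm_num).dvd_of_dvd_pow h)
    omega
  have hQu : u ∉ Q := fun h => hQ7 (hu ▸ Subgroup.orderOf_dvd_natCard Q h)
  have hQC : Q ⊓ centralizer ({u} : Set C) = zpowers z := by
    refine (eq_of_le_of_card_ge (le_inf hzQ (zpowers_le.2 (mem_centralizer_singleton_iff.2 (hzc u).eq))) ?_).symm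
    rw [Nat.card_zpowers, hz]
    have h1 : Nat.card (Q ⊓ centralizer ({u} : Set C) : Subgroup C) ∣ 2 ^ j := hj ▸ card_dvd_of_le inf_le_left
    have h2 : Nat.card (Q ⊓ centralizer ({u} : Set C) : Subgroup C) ∣ 2 * 7 :=
      (card_dvd_of_le inf_le_right).trans (dvd_of_eq (hCu.trans (by norm_num)))
    exact Nat.le_of_dvd (by norm_num)
      ((((Nat.coprime_primes Nat.prime_two (by norm_num)).2 (by norm_num)).pow_left j).coprime_dvd_left h1
        |>.dvd_of_dvd_mul_right h2)
  have hjcases : j = 1 ∨ j = 4 ∨ j = 7 := by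
    refine two_pow_mod_seven j (by omega) ?_
    have h := M12Order.card_fixed_pgroup (p := 7)
      (IsPGroup.of_card (n := 1) (by rw [Nat.card_zpowers, hu, pow_one]) : IsPGroup 7 (zpowers u)) Q
      (by rw [normalizer_eq_top]; exact le_top)
    rw [hj, show Q ⊓ centralizer (zpowers u : Set C) = zpowers z by
      rw [zpowers_eq_closure u, centralizer_closure, hQC], Nat.card_zpowers, hz] at h
    exact h
  -- the quotient
  set π := QuotientGroup.mk' Q
  have hK : Nat.card (C ⧸ Q) * 2 ^ j = 96768 := by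
    rw [← hj, ← index_eq_card, mul_comm, card_mul_index, hC]
  have hu' : orderOf (π u) = 7 := orderOf_mk_seven Q hu hQu
  have hQN : Q ⊓ normalizer (zpowers u : Set C) = zpowers z := by
    refine le_antisymm (fun q hq => ?_) (le_inf hzQ ?_)
    · rw [← hQC]
      refine ⟨hq.1, mem_centralizer_singleton_iff.2 (mul_inv_eq_iff_eq_mul.1 ?_)⟩
      have h1 : q * u * q⁻¹ * u⁻¹ ∈ Q := by
        have := mul_mem hq.1 ((inferInstance : Q.Normal).conj_mem q⁻¹ (inv_mem hq.1) u)
        simpa [mul_assoc] using this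
      have h2 : q * u * q⁻¹ * u⁻¹ ∈ zpowers u :=
        mul_mem ((mem_normalizer_iff.1 hq.2 u).1 (mem_zpowers u)) (inv_mem (mem_zpowers u))
      have h3 : orderOf (q * u * q⁻¹ * u⁻¹) = 1 := by
        have a1 := Subgroup.orderOf_dvd_natCard Q h1
        have a2 := Subgroup.orderOf_dvd_natCard _ h2
        rw [Nat.card_zpowers, hu] at a2
        rcases (show Nat.Prime 7 by norm_num).eq_one_or_self_of_dvd _ a2 with e | e
        · exact e
        · exact absurd (e ▸ a1) hQ7
      exact mul_inv_eq_one.1 (orderOf_eq_one_iff.1 h3)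
    · refine zpowers_le.2 (M22Order.mem_normalizer_of_conj fun v hv => ?_)
      rw [(hzc v).eq, mul_inv_cancel_right]
      exact hv
  have hNK : Nat.card (normalizer (zpowers (π u) : Set (C ⧸ Q))) = 21 := by
    rw [← map_normalizer_seven Q hu hQu hQ7]
    set N := normalizer (zpowers u : Set C)
    set f := π.comp N.subtype
    have hr : f.range = N.map π := by
      rw [MonoidHom.range_comp, range_subtype]
    have h1 := card_mul_index f.ker
    rw [index_ker, hr, hNu] at h1
    have h2 : Nat.card f.ker = 2 := by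
      rw [← Subgroup.card_subtype, show f.ker.map N.subtype = Q ⊓ N by
        rw [show f.ker = Q.subgroupOf N by rw [← MonoidHom.comap_ker, QuotientGroup.ker_mk']; rfl,
          subgroupOf_map_subtype], hQN, Nat.card_zpowers, hz]
    rw [h2] at h1
    exact Nat.eq_of_mul_eq_mul_left two_pos h1
  have hCK : Nat.card (centralizer ({π u} : Set (C ⧸ Q))) = 7 := by
    set CK := centralizer ({π u} : Set (C ⧸ Q))
    have hle : CK ≤ normalizer (zpowers (π u) : Set (C ⧸ Q)) :=
      fun c hc => centralizer_le_normalizer _ (cent_le_zpowers hc)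
    have h1 : Nat.card CK ∣ 21 := hNK ▸ card_dvd_of_le hle
    have h7 : 7 ∣ Nat.card CK := hu' ▸ Subgroup.orderOf_dvd_natCard _ (mem_centralizer_singleton_iff.2 rfl)
    have hne : Nat.card CK ≠ 21 := fun h => by
      have heq := eq_of_le_of_card_ge hle (by rw [hNK, h])
      have hsub : normalizer (zpowers u : Set C) ≤ centralizer ({u} : Set C) := fun n hn => by
        have hn' : π n ∈ CK := by
          rw [heq, ← map_normalizer_seven Q hu hQu hQ7]; exact mem_map_of_mem _ hn
        have h1 : n * u * n⁻¹ * u⁻¹ ∈ Q := by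
          rw [← QuotientGroup.ker_mk' Q, MonoidHom.mem_ker]
          show π (n * u * n⁻¹ * u⁻¹) = 1
          rw [map_mul, map_mul, map_mul, map_inv, map_inv, mem_centralizer_singleton_iff.1 hn',
            mul_inv_cancel_right, mul_inv_cancel]
        have h2 : n * u * n⁻¹ * u⁻¹ ∈ zpowers u :=
          mul_mem ((mem_normalizer_iff.1 hn u).1 (mem_zpowers u)) (inv_mem (mem_zpowers u))
        refine mem_centralizer_singleton_iff.2 (mul_inv_eq_iff_eq_mul.1 (mul_inv_eq_one.1 ?_))
        have a1 := Subgroup.orderOf_dvd_natCard Q h1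
        have a2 := Subgroup.orderOf_dvd_natCard _ h2
        rw [Nat.card_zpowers, hu] at a2
        rcases (show Nat.Prime 7 by norm_num).eq_one_or_self_of_dvd _ a2 with e | e
        · exact orderOf_eq_one_iff.1 e
        · exact absurd (e ▸ a1) hQ7
      have := card_dvd_of_le hsub
      rw [hNu, hCu] at this
      norm_num at this
    have hle21 := Nat.le_of_dvd (by norm_num) h1
    obtain ⟨c, hc⟩ := h7
    rw [hc] at h1 hne hle21 ⊢
    have : c ≤ 3 := by omega
    interval_cases c <;> omega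
  have hdiv7 : 7 ∣ Nat.card (C ⧸ Q) := hu' ▸ orderOf_dvd_natCard _
  obtain ⟨m₀, hm₀⟩ := hdiv7
  have hm7 : ¬ 7 ∣ m₀ := fun h => by
    obtain ⟨t, rfl⟩ := h
    rcases hjcases with rfl | rfl | rfl <;> omega
  obtain ⟨P, hP⟩ := exists_sylow_zpowers hm₀ hm7 hu'
  have hsimple : IsSimpleGroup (C ⧸ Q) := by
    refine isSimple_of_fpf (e := 3) Nat.prime_three P (by rw [hP, Nat.card_zpowers, hu'])
      (by rw [hP, hNK]) (by rcases hjcases with rfl | rfl | rfl <;> omega) fun N hN h7 => ?_
    haveI := hN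
    haveI : Fact (Nat.Prime 3) := ⟨Nat.prime_three⟩
    have hdN : Nat.card N ∣ 96768 :=
      (card_subgroup_dvd_card N).trans ⟨2 ^ j, hK.symm⟩
    have h3 : (Nat.card N).factorization 3 = 0 := by
      have := exp_le Nat.prime_three hdN (show 96768 = 3 ^ 3 * 3584 by norm_num) (by norm_num) (by norm_num)
      have hd := dvd_sylow_sub_one (p := 7) (r := 3) hu' hCK N h7
      generalize (Nat.card N).factorization 3 = e at hd this ⊢
      interval_cases e <;> first | rfl | (norm_num at hd)
    have h2N : IsPGroup 2 N := by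
      refine IsPGroup.of_card (n := (Nat.card N).primeFactorsList.length)
        (Nat.eq_prime_pow_of_unique_prime_dvd Nat.card_pos.ne' fun {d} hd hdN' => ?_)
      have hd' : d ∣ (2 * (3 * 7)) ^ 9 := (hdN'.trans hdN).trans (by norm_num)
      have hd'' := hd.dvd_of_dvd_pow hd'
      rcases hd.dvd_mul.1 hd'' with h | h
      · exact (Nat.prime_dvd_prime_iff_eq hd Nat.prime_two).1 h
      rcases hd.dvd_mul.1 h with h | h
      · rw [(Nat.prime_dvd_prime_iff_eq hd Nat.prime_three).1 h] at hdN'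
        have := Nat.Prime.factorization_pos_of_dvd Nat.prime_three Nat.card_pos.ne' hdN'
        omega
      · exact absurd ((Nat.prime_dvd_prime_iff_eq hd (by norm_num)).1 h ▸ hdN') h7
    have hle : N ≤ Cfsg.pCore 2 (C ⧸ Q) := Cores.le_pCore h2N
    rw [Cores.pCore_quotient_self] at hle
    exact le_bot_iff.1 hle
  haveI := hsimple
  rcases hjcases with rfl | rfl | rfl
  · exact no_48384 (z := z) (u := u) Q hK hj hz hzQ hu' hCK hNK R hR hy hyz hyR
  · exact no_6048 hC hz hzc hu Q hj hzQ hQC hu'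
  · exact SmallSimple.Orders1092.ne_756 (G := C ⧸ Q) (by omega)

namespace Hyp

variable {G : Type u} [Group G] [Finite G] (H : Hyp G)
include H

/-- **The centraliser of `z` has order 21504.** -/
theorem not_big {z u c : G} (hz : orderOf z = 2) (hu : orderOf u = 7) (huz : Commute u z)
    (hCz : Nat.card (centralizer ({z} : Set G)) = 96768)
    (hzc : ¬ IsConj z c) (hCc : Nat.card (centralizer ({c} : Set G)) = 27648) (hc : orderOf c = 2) :
    False := by
  classical
  haveI : Fact (Nat.Prime 2) := ⟨Nat.prime_two⟩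
  haveI : Fact (Nat.Prime 3) := ⟨Nat.prime_three⟩
  obtain ⟨a, b, c6⟩ := H.data7 hu
  set C := centralizer ({z} : Set G) with hC
  have hzC : z ∈ C := mem_centralizer_singleton_iff.2 rfl
  have huC : u ∈ C := mem_centralizer_singleton_iff.2 huz.eq
  have hle : centralizer ({u} : Set G) ≤ normalizer (zpowers u : Set G) :=
    fun x hx => centralizer_le_normalizer _ (cent_le_zpowers hx)
  have hCu : Nat.card (centralizer ({(⟨u, huC⟩ : C)} : Set C)) = 14 := by
    rw [M22Order.card_centralizer_subgroup]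
    have h := card_inf_mul a b c6 hz huz _ le_rfl hle
    rw [← hC] at h
    simp only [inf_comm] at h ⊢
    rw [(H.seven hu).1] at h
    omega
  have hNu : Nat.card (normalizer (zpowers (⟨u, huC⟩ : C) : Set C)) = 42 := by
    have e : zpowers (⟨u, huC⟩ : C) = (zpowers u).subgroupOf C := by
      apply Subgroup.map_injective C.subtype_injective
      rw [MonoidHom.map_zpowers, Subgroup.map_subgroupOf_eq_of_le (zpowers_le.2 huC)]
      rfl
    rw [e, ← subgroupOf_normalizer_eq (zpowers_le.2 huC), ← inf_subgroupOf_left,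
      Nat.card_congr (subgroupOfEquivOfLe inf_le_left).toEquiv]
    have h := card_inf_mul a b c6 hz huz _ hle le_rfl
    rw [← hC] at h
    rw [H.N7 hu] at h
    omega
  -- a Sylow 3-subgroup centralised by `z` and a conjugate of `c`
  obtain ⟨RC⟩ : Nonempty (Sylow 3 C) := inferInstance
  have hRC : Nat.card (RC : Subgroup C) = 27 := by
    rw [SmallSimple.Basic.card_sylow_eq_pow (a := 3) (m := 3584) (by rw [hCz]; norm_num) (by norm_num) RC]
    norm_num
  set R : Subgroup G := (RC : Subgroup C).map C.subtype with hRdef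
  have hR : Nat.card R = 27 := by rw [hRdef, Subgroup.card_subtype, hRC]
  obtain ⟨R'⟩ : Nonempty (Sylow 3 (centralizer ({c} : Set G))) := inferInstance
  have hR' : Nat.card ((R' : Subgroup (centralizer ({c} : Set G))).map
      (centralizer ({c} : Set G)).subtype) = 27 := by
    rw [Subgroup.card_subtype,
      SmallSimple.Basic.card_sylow_eq_pow (a := 3) (m := 1024) (by rw [hCc]; norm_num) (by norm_num) R']
    norm_num
  have hfac : 3 ^ (Nat.card G).factorization 3 = 27 := by
    rw [H.card, show 244823040 = 3 ^ 3 * 9067520 by norm_num,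
      Nat.factorization_mul (by norm_num) (by norm_num), Finsupp.add_apply,
      Nat.Prime.factorization_pow Nat.prime_three, Finsupp.single_eq_same,
      Nat.factorization_eq_zero_of_not_dvd (by norm_num)]
    norm_num
  obtain ⟨g, hg⟩ := MulAction.exists_smul_eq G
    (Sylow.ofCard (p := 3) _ (hR'.trans hfac.symm)) (Sylow.ofCard (p := 3) R (hR.trans hfac.symm))
  set c' := g * c * g⁻¹ with hc'
  have hc'R : ∀ r ∈ R, Commute c' r := by
    intro r hr
    have hr' : r ∈ ((g • Sylow.ofCard (p := 3) _ (hR'.trans hfac.symm) : Sylow 3 G) : Subgroup G) := by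
      rw [hg, Sylow.coe_ofCard]; exact hr
    obtain ⟨s, hs, rfl⟩ := hr'
    rw [SetLike.mem_coe, Sylow.coe_ofCard] at hs
    obtain ⟨s', -, rfl⟩ := hs
    show Commute (g * c * g⁻¹) (g * (s' : G) * g⁻¹)
    exact M22Order.commute_conj g ((mem_centralizer_singleton_iff.1 s'.2).symm)
  set Hc := centralizer (R : Set G) with hHc
  have hzH : z ∈ Hc := mem_centralizer_iff.2 fun r hr => by
    obtain ⟨r', -, rfl⟩ := hr
    exact mem_centralizer_singleton_iff.1 r'.2
  have hcH : c' ∈ Hc := mem_centralizer_iff.2 fun r hr => (hc'R r hr).symm.eq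
  have hoz : orderOf (⟨z, hzH⟩ : Hc) = 2 := by rw [Subgroup.orderOf_mk, hz]
  obtain ⟨S, hS⟩ := (IsPGroup.of_card (n := 1) (by rw [Nat.card_zpowers, hoz, pow_one]) :
    IsPGroup 2 (zpowers (⟨z, hzH⟩ : Hc))).exists_le_sylow
  have hzS : (⟨z, hzH⟩ : Hc) ∈ (S : Subgroup Hc) := hS (mem_zpowers _)
  have hne : zpowers (⟨(⟨z, hzH⟩ : Hc), hzS⟩ : (S : Subgroup Hc)) ≠ ⊤ := by
    intro htop
    have hoc : orderOf (⟨c', hcH⟩ : Hc) = 2 := by
      rw [Subgroup.orderOf_mk]; exact (M22Order.orderOf_conj g c).trans hc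
    obtain ⟨S', hS'⟩ := (IsPGroup.of_card (n := 1) (by rw [Nat.card_zpowers, hoc, pow_one]) :
      IsPGroup 2 (zpowers (⟨c', hcH⟩ : Hc))).exists_le_sylow
    obtain ⟨h, hh⟩ := MulAction.exists_smul_eq Hc S' S
    have hmem : h * ⟨c', hcH⟩ * h⁻¹ ∈ (S : Subgroup Hc) := by
      rw [← hh]; exact ⟨_, hS' (mem_zpowers _), rfl⟩
    have h1 : (⟨_, hmem⟩ : (S : Subgroup Hc)) ∈
        zpowers (⟨(⟨z, hzH⟩ : Hc), hzS⟩ : (S : Subgroup Hc)) := htop ▸ mem_top _
    obtain ⟨l, hl⟩ := mem_zpowers_iff.1 h1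
    have hl' : z ^ l = (h : G) * c' * (h : G)⁻¹ := by
      have := congrArg (fun v : (S : Subgroup Hc) => ((v : Hc) : G)) hl
      simpa using this
    have hz2 : z ^ (2 : ℤ) = 1 := by
      rw [show (2 : ℤ) = ((2 : ℕ) : ℤ) from rfl, zpow_natCast, ← hz, pow_orderOf_eq_one]
    have ho : orderOf ((h : G) * c' * (h : G)⁻¹) = 2 := by
      rw [M22Order.orderOf_conj, hc', M22Order.orderOf_conj, hc]
    rcases Int.even_or_odd' l with ⟨l', rfl | rfl⟩
    · rw [zpow_mul, hz2, one_zpow] at hl'
      rw [← hl', orderOf_one] at ho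
      norm_num at ho
    · rw [zpow_add, zpow_mul, hz2, one_zpow, one_mul, zpow_one] at hl'
      refine hzc ?_
      have h2 : IsConj c z := isConj_iff.2 ⟨(h : G) * g, by rw [hl', hc']; group⟩
      exact h2.symm
  haveI : Group.IsNilpotent (S : Subgroup Hc) := S.isPGroup'.isNilpotent
  obtain ⟨y, hyN, hy⟩ := SetLike.exists_of_lt
    (Group.normalizerCondition_of_isNilpotent _ (lt_top_iff_ne_top.2 hne))
  have hyz : Commute (((y : Hc) : G)) z := by
    have h1 := (mem_normalizer_iff.1 hyN ⟨⟨z, hzH⟩, hzS⟩).1 (mem_zpowers _)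
    obtain ⟨l, hl⟩ := mem_zpowers_iff.1 h1
    have hl' : z ^ l = ((y : Hc) : G) * z * ((y : Hc) : G)⁻¹ := by
      have := congrArg (fun v : (S : Subgroup Hc) => ((v : Hc) : G)) hl
      simpa using this
    have hz2 : z ^ (2 : ℤ) = 1 := by
      rw [show (2 : ℤ) = ((2 : ℕ) : ℤ) from rfl, zpow_natCast, ← hz, pow_orderOf_eq_one]
    rcases Int.even_or_odd' l with ⟨l', rfl | rfl⟩
    · rw [zpow_mul, hz2, one_zpow] at hl'
      rw [eq_comm, conj_eq_one_iff] at hl'
      rw [hl', orderOf_one] at hz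
      norm_num at hz
    · rw [zpow_add, zpow_mul, hz2, one_zpow, one_mul, zpow_one] at hl'
      exact (mul_inv_eq_iff_eq_mul.1 hl'.symm)
  obtain ⟨k, hk⟩ := IsPGroup.iff_orderOf.1 S.isPGroup' y
  refine no_alone (C := C) hCz (z := ⟨z, hzC⟩) (u := ⟨u, huC⟩) (by rw [Subgroup.orderOf_mk, hz])
    (fun v => Subtype.ext (mem_centralizer_singleton_iff.1 v.2).symm) (by rw [Subgroup.orderOf_mk, hu])
    hCu hNu (RC : Subgroup C) hRC (y := ⟨((y : Hc) : G), mem_centralizer_singleton_iff.2 hyz.eq⟩)
    (k := k) (by rw [Subgroup.orderOf_mk, Subgroup.orderOf_coe, Subgroup.orderOf_coe, hk]) ?_ ?_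
  · intro h
    obtain ⟨l, hl⟩ := mem_zpowers_iff.1 h
    refine hy (mem_zpowers_iff.2 ⟨l, Subtype.ext (Subtype.ext ?_)⟩)
    simpa using congrArg Subtype.val hl
  · intro r hr
    exact Subtype.ext (mem_centralizer_iff.1 (y : Hc).2 (r : G) (mem_map_of_mem _ hr)).symm

end Hyp

end Cfsg.Agent.M24Order.Count
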