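import Cfsg.Agent.Lib.M24Order.Count.Spectrum
import Cfsg.Agent.Lib.M22Order.LocalTools

/-!
# The classes of involutions

Involutions commuting with elements of order seven, resp. five, form one class each; a product of two
involutions of order eleven comes from the second class, which leaves two possibilities.
-/

set_option autoImplicit false
set_option linter.style.haveILetI false
set_option linter.unusedSectionVars false
set_option maxRecDepth 40000

namespace Cfsg.Agent.M24Order.Count

open Subgroup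

universe u

variable {G : Type u} [Group G] [Finite G]

theorem commute_conj_gen {g x y : G} (h : zpowers (g * x * g⁻¹) = zpowers y) {c : G} (hc : Commute y c) :
    Commute x (g⁻¹ * c * g) := by
  have hy : g * x * g⁻¹ ∈ zpowers y := h ▸ mem_zpowers _
  obtain ⟨i, hi⟩ := mem_zpowers_iff.1 hy
  have h' := hc.zpow_left i
  rw [hi] at h'
  simpa [mul_assoc] using h'.map (MulAut.conj g⁻¹).toMonoidHom

section Local

variable {x : G} (h2 : kk x 2 = 3) (h3 : 0 < kk x 3) (h6 : kk x 6 = 0)

include h2 h3 h6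

/-- The involutions commuting with `x` are conjugate in the centraliser of `x`. -/
theorem exists_conj_cent {i j : G} (hi : orderOf i = 2) (hxi : Commute x i) (hj : orderOf j = 2)
    (hxj : Commute x j) : ∃ c, Commute x c ∧ c * i * c⁻¹ = j := by
  classical
  haveI := Fintype.ofFinite G
  rw [kk, Nat.card_pos_iff] at h3
  obtain ⟨⟨w, hxw, hw⟩⟩ := h3.1
  have hw3 : w ^ 3 = 1 := by rw [← hw]; exact pow_orderOf_eq_one w
  have hno : ∀ k, orderOf k = 2 → Commute x k → ¬ Commute w k := fun k hk hxk hwk => by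
    have ho : orderOf (w * k) = 6 := by
      rw [hwk.orderOf_mul_eq_mul_orderOf_of_coprime (by rw [hw, hk]; decide), hw, hk]
    have hpos : 0 < kk x 6 := by
      rw [kk, Nat.card_pos_iff]; exact ⟨⟨⟨w * k, hxw.mul_right hxk, ho⟩⟩, inferInstance⟩
    omega
  set S : Finset G := Finset.univ.filter fun k => orderOf k = 2 ∧ Commute x k with hS
  have hSc : S.card = 3 := by
    rw [← h2, kk, Nat.card_eq_fintype_card, Fintype.card_subtype]
    congr 1; ext k; simp [hS, and_comm]
  set T : Finset G := {i, w * i * w⁻¹, w * w * i * (w * w)⁻¹} with hT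
  have hne1 : w * i * w⁻¹ ≠ i := fun e => hno i hi hxi (mul_inv_eq_iff_eq_mul.1 e)
  have hne2 : w * w * i * (w * w)⁻¹ ≠ i := fun e => by
    have h : Commute (w * w) i := mul_inv_eq_iff_eq_mul.1 e
    refine hno i hi hxi ?_
    have e4 : w * w * (w * w) = w := by
      calc w * w * (w * w) = w ^ 3 * w := by simp [pow_three, mul_assoc]
        _ = w := by rw [hw3, one_mul]
    have h4 := h.mul_left h
    rwa [e4] at h4
  have hne3 : w * w * i * (w * w)⁻¹ ≠ w * i * w⁻¹ := fun e => hne1 (by
    calc w * i * w⁻¹ = w⁻¹ * (w * w * i * (w * w)⁻¹) * w := by group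
      _ = i := by rw [e]; group)
  have hTc : T.card = 3 := by
    rw [hT, Finset.card_insert_of_notMem (by
      simp only [Finset.mem_insert, Finset.mem_singleton, not_or]; exact ⟨hne1.symm, hne2.symm⟩),
      Finset.card_pair hne3.symm]
  have hsub : T ⊆ S := by
    intro k hk
    simp only [hT, Finset.mem_insert, Finset.mem_singleton] at hk
    simp only [hS, Finset.mem_filter, Finset.mem_univ, true_and]
    rcases hk with rfl | rfl | rfl
    · exact ⟨hi, hxi⟩
    · exact ⟨(M22Order.orderOf_conj _ _).trans hi, (hxw.mul_right hxi).mul_right hxw.inv_right⟩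
    · exact ⟨(M22Order.orderOf_conj _ _).trans hi,
        ((hxw.mul_right hxw).mul_right hxi).mul_right (hxw.mul_right hxw).inv_right⟩
  have hjT : j ∈ T := by
    rw [Finset.eq_of_subset_of_card_le hsub (by omega)]
    simp [hS, hj, hxj]
  simp only [hT, Finset.mem_insert, Finset.mem_singleton] at hjT
  rcases hjT with rfl | rfl | rfl
  · exact ⟨1, Commute.one_right x, by group⟩
  · exact ⟨w, hxw, rfl⟩
  · exact ⟨w * w, hxw.mul_right hxw, rfl⟩

/-- A subgroup between the centraliser and the normaliser has a third of it centralising `i`. -/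
theorem card_inf_mul {i : G} (hi : orderOf i = 2) (hxi : Commute x i) (M : Subgroup G)
    (hCM : centralizer ({x} : Set G) ≤ M) (hMN : M ≤ normalizer (zpowers x : Set G)) :
    Nat.card (centralizer ({i} : Set G) ⊓ M : Subgroup G) * 3 = Nat.card M := by
  classical
  haveI := Fintype.ofFinite G
  set K := centralizer ({i} : Set G) ⊓ M
  have hset : {y : G | ∃ k ∈ M, k * i * k⁻¹ = y} = {y : G | Commute x y ∧ orderOf y = 2} := by
    ext y
    constructor
    · rintro ⟨k, hk, rfl⟩
      exact ⟨(mem_centralizer_singleton_iff.1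
        (M12Order.conj_mem_cen (hMN hk) (mem_centralizer_singleton_iff.2 hxi.symm.eq))).symm,
        (M22Order.orderOf_conj _ _).trans hi⟩
    · rintro ⟨hxy, hy⟩
      obtain ⟨c, hc, e⟩ := exists_conj_cent h2 h3 h6 hi hxi hy hxy
      exact ⟨c, hCM (mem_centralizer_singleton_iff.2 hc.symm.eq), e⟩
  have h := SmallSimple.Basic.card_centralizer_mul_card_class (G := M)
    (⟨i, hCM (mem_centralizer_singleton_iff.2 hxi.symm.eq)⟩ : M)
  rw [M22Order.card_centralizer_subgroup] at h
  refine Eq.trans ?_ h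
  congr 1
  rw [← h2, kk, show {c : G // Commute x c ∧ orderOf c = 2} = {c : G // c ∈ {y : G | ∃ k ∈ M, k * i * k⁻¹ = y}} by
    rw [hset]; rfl]
  refine Nat.card_congr
    { toFun := fun y => ⟨⟨y.1, by
        obtain ⟨k, hk, e⟩ := y.2
        rw [← e]
        exact mul_mem (mul_mem hk (hCM (mem_centralizer_singleton_iff.2 hxi.symm.eq))) (inv_mem hk)⟩,
        isConj_iff.2 (by obtain ⟨k, hk, e⟩ := y.2; exact ⟨⟨k, hk⟩, Subtype.ext e⟩)⟩
      invFun := fun y => ⟨y.1.1, by
        obtain ⟨k, e⟩ := isConj_iff.1 y.2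
        exact ⟨k, k.2, congrArg Subtype.val e⟩⟩
      left_inv := fun y => rfl
      right_inv := fun y => rfl }

/-- The Sylow count in the centraliser of an involution. -/
theorem exists_index {q m₀ : ℕ} [hq : Fact q.Prime] (hG : Nat.card G = q * m₀) (hm₀ : ¬ q ∣ m₀)
    (hx : orderOf x = q) {i : G} (hi : orderOf i = 2) (hxi : Commute x i) :
    ∃ s, s % q = 1 ∧ Nat.card (centralizer ({i} : Set G)) * 3 =
      Nat.card (normalizer (zpowers x : Set G)) * s := by
  set C := centralizer ({i} : Set G) with hC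
  have hxC : x ∈ C := mem_centralizer_singleton_iff.2 hxi.eq
  have hox : orderOf (⟨x, hxC⟩ : C) = q := by rw [Subgroup.orderOf_mk, hx]
  obtain ⟨m, hm⟩ : q ∣ Nat.card C := hox ▸ orderOf_dvd_natCard _
  have hmq : ¬ q ∣ m := fun h => hm₀ (Nat.dvd_of_mul_dvd_mul_left hq.out.pos
    (hG ▸ (Nat.mul_dvd_mul_left q h).trans (hm ▸ card_subgroup_dvd_card C)))
  refine ⟨Nat.card (Sylow q C), by
    have h := card_sylow_modEq_one q C
    unfold Nat.ModEq at h
    rwa [Nat.one_mod_eq_one.2 hq.out.ne_one] at h, ?_⟩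
  have h := card_normalizer_mul hm hmq hox
  rw [← h]
  have hle : zpowers x ≤ C := zpowers_le.2 hxC
  have e1 : Nat.card (normalizer (zpowers (⟨x, hxC⟩ : C) : Set C)) =
      Nat.card (C ⊓ normalizer (zpowers x : Set G) : Subgroup G) := by
    have e : zpowers (⟨x, hxC⟩ : C) = (zpowers x).subgroupOf C := by
      apply Subgroup.map_injective C.subtype_injective
      rw [MonoidHom.map_zpowers, Subgroup.map_subgroupOf_eq_of_le hle]
      rfl
    rw [e, ← subgroupOf_normalizer_eq hle, ← inf_subgroupOf_left,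
      Nat.card_congr (subgroupOfEquivOfLe inf_le_left).toEquiv]
  rw [e1]
  have h3' := card_inf_mul h2 h3 h6 hi hxi _
    (fun c hc => centralizer_le_normalizer _ (cent_le_zpowers hc)) le_rfl
  rw [← h3']
  ring

end Local

/-! ### The two classes -/

namespace Hyp

variable (H : Hyp G)

local instance fact5i : Fact (Nat.Prime 5) := ⟨by norm_num⟩
local instance fact7i : Fact (Nat.Prime 7) := ⟨by norm_num⟩
local instance fact11i : Fact (Nat.Prime 11) := ⟨by norm_num⟩
local instance fact23i : Fact (Nat.Prime 23) := ⟨by norm_num⟩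

include H

theorem data7 {x : G} (hx : orderOf x = 7) : kk x 2 = 3 ∧ 0 < kk x 3 ∧ kk x 6 = 0 := by
  obtain ⟨-, a, b, c⟩ := H.seven hx
  exact ⟨a, by omega, Nat.eq_zero_of_not_pos fun h => by have := c 6 h (by norm_num); omega⟩

theorem data5 {x : G} (hx : orderOf x = 5) : kk x 2 = 3 ∧ 0 < kk x 3 ∧ kk x 6 = 0 := by
  obtain ⟨-, a, b, c⟩ := H.five hx
  exact ⟨a, by omega, Nat.eq_zero_of_not_pos fun h => by have := c 6 h (by norm_num); omega⟩

theorem isConj_of_seven {i j x y : G} (hi : orderOf i = 2) (hj : orderOf j = 2) (hx : orderOf x = 7)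
    (hy : orderOf y = 7) (hxi : Commute x i) (hyj : Commute y j) : IsConj i j := by
  obtain ⟨g, hg⟩ := exists_conj (H.card_eq (show 244823040 = 7 * 34974720 by norm_num)) (by norm_num) hx hy
  obtain ⟨a, b, c⟩ := H.data7 hx
  obtain ⟨k, -, hk⟩ := exists_conj_cent a b c hi hxi
    (show orderOf (g⁻¹ * j * g) = 2 by simpa using (M22Order.orderOf_conj g⁻¹ j).trans hj)
    (commute_conj_gen hg hyj)
  exact isConj_iff.2 ⟨g * k, by
    calc g * k * i * (g * k)⁻¹ = g * (k * i * k⁻¹) * g⁻¹ := by group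
      _ = j := by rw [hk]; group⟩

theorem isConj_of_five {i j x y : G} (hi : orderOf i = 2) (hj : orderOf j = 2) (hx : orderOf x = 5)
    (hy : orderOf y = 5) (hxi : Commute x i) (hyj : Commute y j) : IsConj i j := by
  obtain ⟨g, hg⟩ := exists_conj (H.card_eq (show 244823040 = 5 * 48964608 by norm_num)) (by norm_num) hx hy
  obtain ⟨a, b, c⟩ := H.data5 hx
  obtain ⟨k, -, hk⟩ := exists_conj_cent a b c hi hxi
    (show orderOf (g⁻¹ * j * g) = 2 by simpa using (M22Order.orderOf_conj g⁻¹ j).trans hj)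
    (commute_conj_gen hg hyj)
  exact isConj_iff.2 ⟨g * k, by
    calc g * k * i * (g * k)⁻¹ = g * (k * i * k⁻¹) * g⁻¹ := by group
      _ = j := by rw [hk]; group⟩

theorem cent_seven {i x : G} (hi : orderOf i = 2) (hx : orderOf x = 7) (hxi : Commute x i) :
    ∃ s, s % 7 = 1 ∧ Nat.card (centralizer ({i} : Set G)) = 42 * s := by
  obtain ⟨a, b, c⟩ := H.data7 hx
  obtain ⟨s, hs, e⟩ := exists_index a b c (H.card_eq (show 244823040 = 7 * 34974720 by norm_num))
    (by norm_num) hx hi hxi
  rw [H.N7 hx] at e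
  exact ⟨s, hs, by omega⟩

theorem cent_five {i x : G} (hi : orderOf i = 2) (hx : orderOf x = 5) (hxi : Commute x i) :
    ∃ r, r % 5 = 1 ∧ Nat.card (centralizer ({i} : Set G)) = 80 * r := by
  obtain ⟨a, b, c⟩ := H.data5 hx
  obtain ⟨s, hs, e⟩ := exists_index a b c (H.card_eq (show 244823040 = 5 * 48964608 by norm_num))
    (by norm_num) hx hi hxi
  rw [H.N5 hx] at e
  exact ⟨s, hs, by omega⟩

/-- No involution commutes with elements of order 11 or 23. -/
theorem not_commute_large {i x : G} (hi : orderOf i = 2) (hx : orderOf x = 11 ∨ orderOf x = 23) :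
    ¬ Commute x i := fun h => by
  have h1 := Subgroup.orderOf_dvd_natCard _
    (mem_centralizer_singleton_iff.2 h.symm.eq : i ∈ centralizer ({x} : Set G))
  rcases hx with hx | hx
  · rw [H.C11 hx, hi] at h1; norm_num at h1
  · rw [H.C23 hx, hi] at h1; norm_num at h1

theorem coprime_large {i : G} (hi : orderOf i = 2) :
    ¬ 11 ∣ Nat.card (centralizer ({i} : Set G)) ∧ ¬ 23 ∣ Nat.card (centralizer ({i} : Set G)) := by
  constructor <;> intro h <;>
    obtain ⟨⟨y, hy⟩, hyo⟩ := exists_prime_orderOf_dvd_card' _ h <;>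
    rw [Subgroup.orderOf_mk] at hyo
  · exact H.not_commute_large hi (Or.inl hyo) (mem_centralizer_singleton_iff.1 hy)
  · exact H.not_commute_large hi (Or.inr hyo) (mem_centralizer_singleton_iff.1 hy)

/-- No involution commutes with elements of order seven and five. -/
theorem not_both {i x y : G} (hi : orderOf i = 2) (hx : orderOf x = 7) (hxi : Commute x i)
    (hy : orderOf y = 5) (hyi : Commute y i) : False := by
  obtain ⟨s, hs, e1⟩ := H.cent_seven hi hx hxi
  obtain ⟨r, hr, e2⟩ := H.cent_five hi hy hyi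
  obtain ⟨k, rfl⟩ : 40 ∣ s := by omega
  obtain ⟨h11, h23⟩ := H.coprime_large hi
  have hdvd := card_subgroup_dvd_card (centralizer ({i} : Set G))
  rw [H.card, e1, show 42 * (40 * k) = 1680 * k by ring, show 244823040 = 1680 * 145728 from rfl] at hdvd
  have hk : k ∣ 576 * 253 := Nat.dvd_of_mul_dvd_mul_left (by norm_num : 0 < 1680) hdvd
  rw [e1] at h11 h23
  have hcop : Nat.Coprime k 253 := by
    rw [show 253 = 11 * 23 from rfl]
    refine Nat.Coprime.mul_right ?_ ?_ <;> refine ((Nat.Prime.coprime_iff_not_dvd (by norm_num)).2 fun h => ?_).symm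
    · exact h11 (dvd_mul_of_dvd_right (dvd_mul_of_dvd_right h _) _)
    · exact h23 (dvd_mul_of_dvd_right (dvd_mul_of_dvd_right h _) _)
  have hk' := hcop.dvd_of_dvd_mul_right hk
  have hle : k < 577 := Nat.lt_succ_of_le (Nat.le_of_dvd (by norm_num) hk')
  have h21 : r = 21 * k := by omega
  exact (show ∀ k < 577, k ∣ 576 → (40 * k) % 7 = 1 → (21 * k) % 5 = 1 → False by decide +kernel) k hle hk'
    hs (h21 ▸ hr)

/-- An involution inverting an element of order eleven. -/
theorem exists_inverting {x : G} (hx : orderOf x = 11) :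
    ∃ g : G, orderOf g = 2 ∧ g * x * g⁻¹ = x⁻¹ := by
  haveI : Fact (Nat.Prime 2) := ⟨Nat.prime_two⟩
  set N := normalizer (zpowers x : Set G)
  obtain ⟨⟨g, hgN⟩, hg⟩ := exists_prime_orderOf_dvd_card' (G := N) 2 (by rw [H.N11 hx]; norm_num)
  rw [Subgroup.orderOf_mk] at hg
  refine ⟨g, hg, ?_⟩
  have hgg : g * g = 1 := by rw [← pow_two, ← hg]; exact pow_orderOf_eq_one g
  set y := g * x * g⁻¹ with hy
  have hyz : y ∈ zpowers x := (mem_normalizer_iff.1 hgN x).1 (mem_zpowers x)
  have hcom : Commute y x := by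
    obtain ⟨j, hj⟩ := mem_zpowers_iff.1 hyz
    rw [← hj]; exact Commute.zpow_left (Commute.refl x) j
  have hc : Commute g (y * x) := by
    show g * (y * x) = y * x * g
    have e1 : g * y = x * g := by
      rw [hy, ← mul_assoc, ← mul_assoc, hgg, one_mul, inv_eq_of_mul_eq_one_right hgg]
    have e2 : g * x = y * g := by rw [hy, inv_mul_cancel_right]
    calc g * (y * x) = g * y * x := (mul_assoc _ _ _).symm
      _ = x * (g * x) := by rw [e1, mul_assoc]
      _ = x * y * g := by rw [hy]; group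
      _ = y * x * g := by rw [hcom.eq]
  by_contra hne
  have hne1 : y * x ≠ 1 := fun e => hne (eq_inv_of_mul_eq_one_left e)
  have hoc : orderOf (y * x) = 11 := by
    refine orderOf_eq_prime ?_ hne1
    rw [hcom.mul_pow, show x ^ 11 = 1 by rw [← hx]; exact pow_orderOf_eq_one x, hy, conj_pow,
      show x ^ 11 = 1 by rw [← hx]; exact pow_orderOf_eq_one x]
    group
  exact H.not_commute_large hg (Or.inl hoc) hc.symm

/-- An involution inverting an element of order eleven commutes with an element of order five. -/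
theorem exists_five_of_inverting {x i : G} (hx : orderOf x = 11) (hi : orderOf i = 2)
    (hinv : i * x * i⁻¹ = x⁻¹) : ∃ v, orderOf v = 5 ∧ Commute v i := by
  classical
  haveI := Fintype.ofFinite G
  set N := normalizer (zpowers x : Set G) with hN
  have hiN : i ∈ N := by
    refine M22Order.mem_normalizer_of_conj fun y hy => ?_
    obtain ⟨j, rfl⟩ := mem_zpowers_iff.1 hy
    rw [← conj_zpow, hinv]
    exact zpow_mem (inv_mem (mem_zpowers x)) j
  have h := SmallSimple.Basic.card_centralizer_mul_card_class (G := N) (⟨i, hiN⟩ : N)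
  rw [M22Order.card_centralizer_subgroup, H.N11 hx] at h
  set K := centralizer ({((⟨i, hiN⟩ : N) : G)} : Set G) ⊓ N with hK
  have horb : Nat.card {y : N // IsConj (⟨i, hiN⟩ : N) y} ≤ 11 := by
    let f : {y : N // IsConj (⟨i, hiN⟩ : N) y} → centralizer ({x} : Set G) := fun y => ⟨i * y.1.1, by
      obtain ⟨k, hk⟩ := isConj_iff.1 y.2
      have hk' : (k : G) * i * (k : G)⁻¹ = y.1.1 := congrArg Subtype.val hk
      have hx' : (k : G)⁻¹ * x * k ∈ zpowers x := (mem_normalizer_iff''.1 k.2 x).1 (mem_zpowers x)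
      obtain ⟨j, hj⟩ := mem_zpowers_iff.1 hx'
      have e1 : i * ((k : G)⁻¹ * x * k) * i⁻¹ = ((k : G)⁻¹ * x * k)⁻¹ := by
        rw [← hj, ← conj_zpow, hinv, inv_zpow]
      have e2 : y.1.1 * x * y.1.1⁻¹ = x⁻¹ := by
        calc y.1.1 * x * y.1.1⁻¹ = (k : G) * (i * ((k : G)⁻¹ * x * k) * i⁻¹) * (k : G)⁻¹ := by
              rw [← hk']; group
          _ = x⁻¹ := by rw [e1]; group
      refine mem_centralizer_singleton_iff.2 ?_
      calc i * y.1.1 * x = i * (y.1.1 * x * y.1.1⁻¹) * y.1.1 := by group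
        _ = i * x⁻¹ * y.1.1 := by rw [e2]
        _ = i * x⁻¹ * i⁻¹ * (i * y.1.1) := by group
        _ = x * (i * y.1.1) := by
          rw [show i * x⁻¹ * i⁻¹ = (i * x * i⁻¹)⁻¹ by group, hinv, inv_inv]⟩
    calc Nat.card {y : N // IsConj (⟨i, hiN⟩ : N) y}
        ≤ Nat.card (centralizer ({x} : Set G)) := Nat.card_le_card_of_injective f fun a b e =>
          Subtype.ext (Subtype.ext (mul_left_cancel (congrArg Subtype.val e)))
      _ = 11 := H.C11 hx
  have hKd : Nat.card K ∣ 110 := ⟨_, h.symm⟩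
  have hK11 : ¬ 11 ∣ Nat.card K := fun hd =>
    (H.coprime_large hi).1 (hd.trans (card_dvd_of_le inf_le_left))
  have hge : 10 ≤ Nat.card K := by nlinarith
  have h5 : 5 ∣ Nat.card K := by
    have : ∀ n ≤ 110, n ∣ 110 → ¬ 11 ∣ n → 10 ≤ n → 5 ∣ n := by decide +kernel
    exact this _ (Nat.le_of_dvd (by norm_num) hKd) hKd hK11 hge
  obtain ⟨⟨v, hv⟩, hvo⟩ := exists_prime_orderOf_dvd_card' (G := K) 5 h5
  rw [Subgroup.orderOf_mk] at hvo
  exact ⟨v, hvo, mem_centralizer_singleton_iff.1 hv.1⟩

/-- The classes of involutions. -/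
theorem involutions : ∃ z u t : G, orderOf z = 2 ∧ orderOf u = 7 ∧ Commute u z ∧ orderOf t = 2 ∧
    (∃ v, orderOf v = 5 ∧ Commute v t) ∧ ¬ IsConj z t ∧
    Nat.card (centralizer ({t} : Set G)) = 7680 ∧
    ((Nat.card (centralizer ({z} : Set G)) = 21504 ∧
        ∀ i : G, orderOf i = 2 → IsConj z i ∨ IsConj t i) ∨
      (Nat.card (centralizer ({z} : Set G)) = 96768 ∧
        ∃ c : G, orderOf c = 2 ∧ ¬ IsConj z c ∧ ¬ IsConj t c ∧
          Nat.card (centralizer ({c} : Set G)) = 27648)) := by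
  classical
  haveI := Fintype.ofFinite G
  obtain ⟨u, hu⟩ := exists_elt (G := G) (q := 7) (by rw [H.card]; norm_num)
  obtain ⟨v, hv⟩ := exists_elt (G := G) (q := 5) (by rw [H.card]; norm_num)
  obtain ⟨a7, b7, c7⟩ := H.data7 hu
  obtain ⟨a5, b5, c5⟩ := H.data5 hv
  obtain ⟨⟨z, huz, hz⟩⟩ : Nonempty {c : G // Commute u c ∧ orderOf c = 2} :=
    (Nat.card_pos_iff.1 (show 0 < kk u 2 by omega)).1
  obtain ⟨⟨t, hvt, ht⟩⟩ : Nonempty {c : G // Commute v c ∧ orderOf c = 2} :=
    (Nat.card_pos_iff.1 (show 0 < kk v 2 by omega)).1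
  have hzt : ¬ IsConj z t := fun h => by
    obtain ⟨g, hg⟩ := isConj_iff.1 h
    refine H.not_both hz hu huz (y := g⁻¹ * v * g)
      (by simpa using (M22Order.orderOf_conj g⁻¹ v).trans hv) ?_
    rw [← hg] at hvt
    simpa [mul_assoc] using hvt.map (MulAut.conj g⁻¹).toMonoidHom
  obtain ⟨s, hs, eC⟩ := H.cent_seven hz hu huz
  obtain ⟨r, hr, eT⟩ := H.cent_five ht hv hvt
  set X := Nat.card {y : G // IsConj z y}
  set Y := Nat.card {y : G // IsConj t y}
  have hX : 42 * s * X = 244823040 := by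
    rw [← eC, SmallSimple.Basic.card_centralizer_mul_card_class z, H.card]
  have hY : 80 * r * Y = 244823040 := by
    rw [← eT, SmallSimple.Basic.card_centralizer_mul_card_class t, H.card]
  have hoX : ∀ {a y : G}, orderOf a = 2 → IsConj a y → orderOf y = 2 := fun ha h => by
    obtain ⟨g, rfl⟩ := isConj_iff.1 h; exact (M22Order.orderOf_conj g _).trans ha
  set R : Set G := {y : G | orderOf y = 2 ∧ ¬ IsConj z y ∧ ¬ IsConj t y} with hR
  have hsplit : X + Y + Nat.card R = 43263 := by
    rw [← H.cnt_two, cnt_eq_filter,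
      show X = (Finset.univ.filter fun y => IsConj z y).card from (Nat.card_eq_fintype_card.trans (Fintype.card_subtype _)),
      show Y = (Finset.univ.filter fun y => IsConj t y).card from (Nat.card_eq_fintype_card.trans (Fintype.card_subtype _)),
      show Nat.card R = (Finset.univ.filter fun y => orderOf y = 2 ∧ ¬ IsConj z y ∧ ¬ IsConj t y).card from
        (Nat.card_eq_fintype_card.trans (Fintype.card_subtype _)),
      ← Finset.card_union_of_disjoint (Finset.disjoint_filter.2 fun y _ h1 h2 => hzt (h1.trans h2.symm)),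
      ← Finset.card_union_of_disjoint (Finset.disjoint_left.2 fun y hy hy' => by
        simp only [Finset.mem_union, Finset.mem_filter, Finset.mem_univ, true_and] at hy hy'
        exact hy.elim hy'.2.1 hy'.2.2)]
    congr 1
    ext y
    simp only [Finset.mem_union, Finset.mem_filter, Finset.mem_univ, true_and]
    refine ⟨fun h => h.elim (fun h => h.elim (hoX hz) (hoX ht)) fun h => h.1, fun h => ?_⟩
    by_cases h1 : IsConj z y
    · exact Or.inl (Or.inl h1)
    by_cases h2 : IsConj t y
    · exact Or.inl (Or.inr h2)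
    exact Or.inr ⟨h, h1, h2⟩
  have hfree : ∀ {A : Set G}, (∀ y ∈ A, orderOf y = 2) → (∀ y ∈ A, ∀ g : G, g * y * g⁻¹ ∈ A) →
      (∀ y ∈ A, ¬ IsConj z y ∧ ¬ IsConj t y) → ∀ q ∈ [5, 7, 11, 23], q ∣ Nat.card A := by
    intro A hA2 hAc hAne q hq
    have hqp : q.Prime := (show ∀ q ∈ [5, 7, 11, 23], Nat.Prime q by decide) q hq
    haveI := Fact.mk hqp
    obtain ⟨x, hx⟩ := exists_elt (G := G) (q := q) (by
      rw [H.card]; exact (show ∀ q ∈ [5, 7, 11, 23], q ∣ 244823040 by decide) q hq)
    refine M22Order.Nse.dvd_card_set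
      (IsPGroup.of_card (n := 1) (by rw [Nat.card_zpowers, hx, pow_one]) : IsPGroup q (zpowers x))
      A (fun a _ y hy => hAc y hy a) fun y hy hyc => ?_
    have hc : Commute x y := mem_centralizer_iff.1 hyc x (mem_zpowers x)
    simp only [List.mem_cons, List.not_mem_nil, or_false] at hq
    rcases hq with rfl | rfl | rfl | rfl
    · exact (hAne y hy).2 (H.isConj_of_five ht (hA2 y hy) hv hx hvt hc)
    · exact (hAne y hy).1 (H.isConj_of_seven hz (hA2 y hy) hu hx huz hc)
    · exact H.not_commute_large (hA2 y hy) (Or.inl hx) hc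
    · exact H.not_commute_large (hA2 y hy) (Or.inr hx) hc
  have h8855 : ∀ {A : Set G}, (∀ y ∈ A, orderOf y = 2) → (∀ y ∈ A, ∀ g : G, g * y * g⁻¹ ∈ A) →
      (∀ y ∈ A, ¬ IsConj z y ∧ ¬ IsConj t y) → 8855 ∣ Nat.card A := by
    intro A h1 h2 h3
    have := hfree h1 h2 h3
    rw [show 8855 = 5 * (7 * (11 * 23)) from rfl]
    exact Nat.Coprime.mul_dvd_of_dvd_of_dvd (by decide) (this 5 (by decide))
      (Nat.Coprime.mul_dvd_of_dvd_of_dvd (by decide) (this 7 (by decide))
        (Nat.Coprime.mul_dvd_of_dvd_of_dvd (by decide) (this 11 (by decide)) (this 23 (by decide))))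
  have hR8855 : 8855 ∣ Nat.card R := by
    refine h8855 (fun y hy => hy.1) (fun y hy g => ?_) fun y hy => hy.2
    have hcj : IsConj y (g * y * g⁻¹) := isConj_iff.2 ⟨g, rfl⟩
    exact ⟨hoX hy.1 hcj, fun h => hy.2.1 (h.trans hcj.symm), fun h => hy.2.2 (h.trans hcj.symm)⟩
  -- pairs with a product of order eleven
  have hpairs : 244823040 ≤ Y * Y := by
    have hfib : ∀ x : {x : G // orderOf x = 11},
        11 ≤ Nat.card {i : G // IsConj t i ∧ IsConj t (i * x.1)} := by
      intro x
      obtain ⟨g, hg, hgx⟩ := H.exists_inverting x.2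
      have hinv : ∀ a ∈ zpowers x.1, g * a * g⁻¹ = a⁻¹ := fun a ha => by
        obtain ⟨j, rfl⟩ := mem_zpowers_iff.1 ha
        rw [← conj_zpow, hgx, inv_zpow]
      have hgg : g * g = 1 := by rw [← pow_two, ← hg]; exact pow_orderOf_eq_one g
      have hgood : ∀ a ∈ zpowers x.1, IsConj t (g * a) := fun a ha => by
        have hsq : g * a * (g * a) = 1 := by
          calc g * a * (g * a) = (g * a * g⁻¹) * (g * g) * a := by group
            _ = 1 := by rw [hinv a ha, hgg]; group
        have hne : g * a ≠ 1 := fun e => by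
          rw [eq_inv_of_mul_eq_one_left e, orderOf_inv] at hg
          have h2 := Subgroup.orderOf_dvd_natCard _ ha
          rw [hg, Nat.card_zpowers, x.2] at h2
          norm_num at h2
        have hi : orderOf (g * a) = 2 := orderOf_eq_prime (by rw [pow_two]; exact hsq) hne
        obtain ⟨v', hv', hv'c⟩ := H.exists_five_of_inverting x.2 hi (by
          have hax : Commute a x.1 := by
            obtain ⟨j, rfl⟩ := mem_zpowers_iff.1 ha
            exact Commute.zpow_left (Commute.refl _) j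
          calc g * a * x.1 * (g * a)⁻¹ = g * (a * x.1 * a⁻¹) * g⁻¹ := by group
            _ = g * x.1 * g⁻¹ := by rw [hax.eq, mul_inv_cancel_right]
            _ = _ := hgx)
        exact H.isConj_of_five ht hi hv hv' hvt hv'c
      calc 11 = Nat.card (zpowers x.1) := by rw [Nat.card_zpowers, x.2]
        _ ≤ _ := Nat.card_le_card_of_injective (fun a => ⟨g * a.1, hgood a.1 a.2, by
            rw [mul_assoc]; exact hgood _ (mul_mem a.2 (mem_zpowers _))⟩) fun a b e =>
          Subtype.ext (mul_left_cancel (congrArg Subtype.val e))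
    have h1 : ∑ _x : {x : G // orderOf x = 11}, 11 ≤
        Nat.card (Σ x : {x : G // orderOf x = 11}, {i : G // IsConj t i ∧ IsConj t (i * x.1)}) := by
      rw [Nat.card_sigma]; exact Finset.sum_le_sum fun x _ => hfib x
    rw [Finset.sum_const, Finset.card_univ, smul_eq_mul, ← Nat.card_eq_fintype_card,
      show Nat.card {x : G // orderOf x = 11} = 22256640 from H.cnt11] at h1
    refine le_trans h1 ?_
    rw [← Nat.card_prod]
    refine Nat.card_le_card_of_injective (fun p => (⟨p.2.1, p.2.2.1⟩, ⟨p.2.1 * p.1.1, p.2.2.2⟩)) ?_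
    rintro ⟨⟨x, hx⟩, i, hi⟩ ⟨⟨x', hx'⟩, i', hi'⟩ e
    simp only [Prod.mk.injEq, Subtype.mk.injEq] at e
    obtain ⟨rfl, e2⟩ := e
    obtain rfl := mul_left_cancel e2
    rfl
  -- arithmetic
  obtain ⟨h11z, h23z⟩ := H.coprime_large hz
  obtain ⟨h11t, h23t⟩ := H.coprime_large ht
  have h5z : ¬ 5 ∣ Nat.card (centralizer ({z} : Set G)) := fun h => by
    obtain ⟨⟨y, hy⟩, hyo⟩ := exists_prime_orderOf_dvd_card' _ h
    rw [Subgroup.orderOf_mk] at hyo
    exact H.not_both hz hu huz hyo (mem_centralizer_singleton_iff.1 hy)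
  have h7t : ¬ 7 ∣ Nat.card (centralizer ({t} : Set G)) := fun h => by
    obtain ⟨⟨y, hy⟩, hyo⟩ := exists_prime_orderOf_dvd_card' _ h
    rw [Subgroup.orderOf_mk] at hyo
    exact H.not_both ht hyo (mem_centralizer_singleton_iff.1 hy) hv hvt
  rw [eC] at h11z h23z h5z
  rw [eT] at h11t h23t h7t
  have hrY : r * Y = 3060288 := by rw [mul_assoc] at hY; omega
  have hsX : s * X = 5829120 := by rw [mul_assoc] at hX; omega
  have hs4608 : s ∣ 4608 := by
    refine Nat.Coprime.dvd_of_dvd_mul_right ?_ (show s ∣ 4608 * 1265 from ⟨X, by omega⟩)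
    rw [show 1265 = 5 * (11 * 23) from rfl]
    refine Nat.Coprime.mul_right ?_ (Nat.Coprime.mul_right ?_ ?_) <;>
      refine ((Nat.Prime.coprime_iff_not_dvd (by norm_num)).2 fun h => ?_).symm
    · exact h5z (dvd_mul_of_dvd_right h _)
    · exact h11z (dvd_mul_of_dvd_right h _)
    · exact h23z (dvd_mul_of_dvd_right h _)
  have hr1728 : r ∣ 1728 := by
    refine Nat.Coprime.dvd_of_dvd_mul_right ?_ (show r ∣ 1728 * 1771 from ⟨Y, by omega⟩)
    rw [show 1771 = 7 * (11 * 23) from rfl]
    refine Nat.Coprime.mul_right ?_ (Nat.Coprime.mul_right ?_ ?_) <;>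
      refine ((Nat.Prime.coprime_iff_not_dvd (by norm_num)).2 fun h => ?_).symm
    · exact h7t (dvd_mul_of_dvd_right h _)
    · exact h11t (dvd_mul_of_dvd_right h _)
    · exact h23t (dvd_mul_of_dvd_right h _)
  have hr96 : r = 96 := by
    have h := (show ∀ r < 1729, r ∣ 1728 → r % 5 = 1 → r ∈ [1, 6, 16, 36, 96, 216, 576] by decide +kernel) r
      (Nat.lt_succ_of_le (Nat.le_of_dvd (by norm_num) hr1728)) hr1728 hr
    simp only [List.mem_cons, List.not_mem_nil, or_false] at h
    rcases h with rfl | rfl | rfl | rfl | rfl | rfl | rfl <;> first | rfl | nlinarith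
  subst hr96
  have hY' : Y = 31878 := by omega
  have hsv := (show ∀ s < 4609, s ∣ 4608 → s % 7 = 1 → s ∈ [1, 8, 36, 64, 288, 512, 2304] by decide +kernel) s
    (Nat.lt_succ_of_le (Nat.le_of_dvd (by norm_num) hs4608)) hs4608 hs
  simp only [List.mem_cons, List.not_mem_nil, or_false] at hsv
  refine ⟨z, u, t, hz, hu, huz, ht, ⟨v, hv, hvt⟩, hzt, by rw [eT], ?_⟩
  rcases hsv with rfl | rfl | rfl | rfl | rfl | rfl | rfl
  · omega
  · omega
  · omega
  · omega
  · omega
  · refine Or.inl ⟨by rw [eC], fun i hi => ?_⟩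
    by_contra hne
    rw [not_or] at hne
    haveI : Nonempty R := ⟨⟨i, hi, hne⟩⟩
    have : 0 < Nat.card R := Nat.card_pos
    omega
  · refine Or.inr ⟨by rw [eC], ?_⟩
    obtain ⟨⟨c, hc⟩⟩ : Nonempty R := (Nat.card_pos_iff.1 (show 0 < Nat.card R by omega)).1
    refine ⟨c, hc.1, hc.2.1, hc.2.2, ?_⟩
    have hcl : 8855 ∣ Nat.card {y : G | IsConj c y} := by
      refine h8855 (fun y hy => hoX hc.1 hy) (fun y hy g => IsConj.trans hy (isConj_iff.2 ⟨g, rfl⟩))
        fun y hy => ⟨fun h => hc.2.1 (h.trans (IsConj.symm hy)), fun h => hc.2.2 (h.trans (IsConj.symm hy))⟩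
    have hle : Nat.card {y : G | IsConj c y} ≤ Nat.card R :=
      Nat.card_mono (Set.toFinite R) fun y hy =>
        ⟨hoX hc.1 hy, fun h => hc.2.1 (h.trans (IsConj.symm hy)), fun h => hc.2.2 (h.trans (IsConj.symm hy))⟩
    have hmul := SmallSimple.Basic.card_centralizer_mul_card_class c
    rw [H.card] at hmul
    have he : Nat.card {y : G // IsConj c y} = 8855 := by
      have hpos : 0 < Nat.card {y : G | IsConj c y} := by
        haveI : Nonempty {y : G | IsConj c y} := ⟨⟨c, IsConj.refl c⟩⟩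
        exact Nat.card_pos
      have := Nat.le_of_dvd hpos hcl
      have : Nat.card {y : G // IsConj c y} = Nat.card {y : G | IsConj c y} := rfl
      omega
    rw [he] at hmul
    omega

end Hyp

end Cfsg.Agent.M24Order.Count
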