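import Cfsg.Agent.Lib.M24Order.Count.Involutions

/-!
# The number of elements of order six when the first class has centralisers of order 21504
-/

set_option autoImplicit false
set_option linter.style.haveILetI false
set_option linter.unusedSectionVars false
set_option maxRecDepth 40000

namespace Cfsg.Agent.M24Order.Count

open Subgroup

universe u

variable {G : Type u} [Group G] [Finite G]

/-- Twice the number of Sylow subgroups of order three. -/
theorem exists_kk_three {i : G} {m : ℕ} (hC : Nat.card (centralizer ({i} : Set G)) = 3 * m) (hm : ¬ 3 ∣ m) :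
    ∃ A, A ∣ m ∧ A % 3 = 1 ∧ kk i 3 = A * 2 := by
  haveI : Fact (Nat.Prime 3) := ⟨Nat.prime_three⟩
  refine ⟨Nat.card (Sylow 3 (centralizer ({i} : Set G))), ?_, ?_, ?_⟩
  · obtain ⟨P⟩ : Nonempty (Sylow 3 (centralizer ({i} : Set G))) := inferInstance
    have h := P.card_dvd_index
    have h2 := card_mul_index (P : Subgroup (centralizer ({i} : Set G)))
    rw [card_sylow_eq hC hm P, hC] at h2
    rwa [Nat.eq_of_mul_eq_mul_left (by norm_num) h2] at h
  · have h := card_sylow_modEq_one 3 (centralizer ({i} : Set G))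
    unfold Nat.ModEq at h
    omega
  · have h := cnt_self hC hm
    rw [show (3 : ℕ) - 1 = 2 from rfl] at h
    rw [← h]
    unfold kk cnt
    exact Nat.card_congr
      { toFun := fun c => ⟨⟨c.1, mem_centralizer_singleton_iff.2 c.2.1.symm.eq⟩, by
          rw [Subgroup.orderOf_mk]; exact c.2.2⟩
        invFun := fun c => ⟨c.1.1, (mem_centralizer_singleton_iff.1 c.1.2).symm, by
          rw [Subgroup.orderOf_coe]; exact c.2⟩
        left_inv := fun c => rfl
        right_inv := fun c => rfl }

theorem kk_conj {i j : G} (h : IsConj i j) (m : ℕ) : kk j m = kk i m := by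
  obtain ⟨g, rfl⟩ := isConj_iff.1 h
  refine (Nat.card_congr ((MulAut.conj g).toEquiv.subtypeEquiv fun c => ?_)).symm
  show Commute i c ∧ orderOf c = m ↔ Commute (g * i * g⁻¹) (g * c * g⁻¹) ∧ orderOf (g * c * g⁻¹) = m
  rw [show orderOf (g * c * g⁻¹) = orderOf c from MulEquiv.orderOf_eq (MulAut.conj g) c]
  refine and_congr ⟨fun h => ?_, fun h => ?_⟩ Iff.rfl
  · simpa using h.map (MulAut.conj g).toMonoidHom
  · simpa [mul_assoc] using h.map (MulAut.conj g⁻¹).toMonoidHom

theorem six_arith : ∀ a < 11, ∀ b < 10, ∀ e ∈ [1, 7], ∀ f ∈ [1, 5],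
    (2 ^ a * e) % 3 = 1 → (2 ^ b * f) % 3 = 1 →
    11385 * (2 ^ a * e * 2) + 31878 * (2 ^ b * f * 2) ≠ 40803840 := by
  decide +kernel

namespace Hyp

variable (H : Hyp G)
include H

theorem six {z t : G} (hz : orderOf z = 2) (ht : orderOf t = 2) (hzt : ¬ IsConj z t)
    (hCz : Nat.card (centralizer ({z} : Set G)) = 21504) (hCt : Nat.card (centralizer ({t} : Set G)) = 7680)
    (hall : ∀ i : G, orderOf i = 2 → IsConj z i ∨ IsConj t i) : cnt G 6 = 20401920 := by
  classical
  haveI := Fintype.ofFinite G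
  haveI := Fintype.ofFinite {y : G // orderOf y = 2}
  obtain ⟨-, -, h6, -, -⟩ := H.spectrum
  refine h6.resolve_right fun h6 => ?_
  rw [show (6 : ℕ) = 2 * 3 from rfl, card_split (by norm_num) (by norm_num) (by decide)] at h6
  have hcard : ∀ {a : G} {n v : ℕ}, Nat.card (centralizer ({a} : Set G)) = n → n * v = 244823040 →
      0 < n → (Finset.univ.filter fun y : G => IsConj a y).card = v := by
    intro a n v hn hv hpos
    have := SmallSimple.Basic.card_centralizer_mul_card_class a
    rw [hn, H.card, ← hv, Nat.card_eq_fintype_card, Fintype.card_subtype] at this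
    exact Nat.eq_of_mul_eq_mul_left hpos this
  rw [show (∑ i : {y : G // orderOf y = 2}, Nat.card {c : G // Commute i.1 c ∧ orderOf c = 3}) =
      ∑ i ∈ Finset.univ.filter (fun y : G => orderOf y = 2), kk i 3 from
    (Finset.sum_subtype _ (by simp) fun i => kk i 3).symm] at h6
  have hset : (Finset.univ.filter fun y : G => orderOf y = 2) =
      (Finset.univ.filter fun y => IsConj z y) ∪ (Finset.univ.filter fun y => IsConj t y) := by
    ext y
    simp only [Finset.mem_filter, Finset.mem_univ, true_and, Finset.mem_union]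
    refine ⟨hall y, fun h => ?_⟩
    rcases h with h | h <;> obtain ⟨g, rfl⟩ := isConj_iff.1 h
    · exact (M22Order.orderOf_conj g _).trans hz
    · exact (M22Order.orderOf_conj g _).trans ht
  rw [hset, Finset.sum_union (Finset.disjoint_filter.2 fun y _ h1 h2 => hzt (h1.trans h2.symm)),
    Finset.sum_congr rfl fun y hy => kk_conj (Finset.mem_filter.1 hy).2 3,
    Finset.sum_congr (s₁ := Finset.univ.filter fun y => IsConj t y) rfl
      fun y hy => kk_conj (Finset.mem_filter.1 hy).2 3,
    Finset.sum_const, Finset.sum_const, smul_eq_mul, smul_eq_mul,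
    hcard hCz (v := 11385) (by norm_num) (by norm_num),
    hcard hCt (v := 31878) (by norm_num) (by norm_num)] at h6
  obtain ⟨A, hA, hA3, eA⟩ := exists_kk_three (m := 7168) hCz (by norm_num)
  obtain ⟨B, hB, hB3, eB⟩ := exists_kk_three (m := 2560) hCt (by norm_num)
  rw [eA, eB] at h6
  obtain ⟨x, e, hx, he, rfl⟩ := Nat.dvd_mul.1 (show A ∣ 2 ^ 10 * 7 from hA)
  obtain ⟨y, f, hy, hf, rfl⟩ := Nat.dvd_mul.1 (show B ∣ 2 ^ 9 * 5 from hB)
  obtain ⟨a, ha, rfl⟩ := (Nat.dvd_prime_pow Nat.prime_two).1 hx
  obtain ⟨b, hb, rfl⟩ := (Nat.dvd_prime_pow Nat.prime_two).1 hy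
  exact six_arith a (by omega) b (by omega) e
    (by rcases (Nat.dvd_prime (by norm_num)).1 he with rfl | rfl <;> simp) f
    (by rcases (Nat.dvd_prime (by norm_num)).1 hf with rfl | rfl <;> simp) hA3 hB3 h6

end Hyp

end Cfsg.Agent.M24Order.Count
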