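import Cfsg.Agent.Lib.M24Order.Interface
import Cfsg.Agent.Lib.M24Order.CountM24
import Cfsg.Agent.Lib.M24Order.Count.Excluded
import Cfsg.Agent.Lib.M24Order.Count.Six
import Cfsg.Agent.Lib.Golay.M24

/-!
# The facts about a group with the order and the counts of M24

From the order and the set of values of the counting function alone: simplicity, the two classes of
involutions with centralisers of orders 21504 and 7680, and the local data at five and seven.
-/

set_option autoImplicit false

namespace Cfsg.Agent.M24Order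

open Subgroup Count

universe u

variable {G : Type u} [Group G] [Finite G]

/-- The hypotheses of the statement give the arithmetic ones. -/
theorem hyp_of_nse (hcard : Nat.card G = Nat.card ↥Cfsg.M24)
    (hnse : {c : ℕ | 0 < c ∧ ∃ n : ℕ, c = Nat.card {g : G // orderOf g = n}} =
      {c : ℕ | 0 < c ∧ ∃ n : ℕ, c = Nat.card {g : ↥Cfsg.M24 // orderOf g = n}}) : Count.Hyp G := by
  refine ⟨hcard.trans Golay.M24.card_M24, fun c => ?_⟩
  have h := Set.ext_iff.1 (hnse.trans CountM24.nse_M24) c
  simp only [Set.mem_setOf_eq, Finset.mem_coe] at h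
  refine h.trans ?_
  simp only [V, Finset.mem_insert, Finset.mem_singleton, List.mem_cons, List.not_mem_nil, or_false]

/-- **The facts used by the local analysis.** -/
theorem exists_facts (hcard : Nat.card G = Nat.card ↥Cfsg.M24)
    (hnse : {c : ℕ | 0 < c ∧ ∃ n : ℕ, c = Nat.card {g : G // orderOf g = n}} =
      {c : ℕ | 0 < c ∧ ∃ n : ℕ, c = Nat.card {g : ↥Cfsg.M24 // orderOf g = n}}) :
    Nonempty (Facts G) := by
  have H := hyp_of_nse hcard hnse
  obtain ⟨z, u, t, hz, hu, huz, ht, -, hzt, hCt, hcase⟩ := H.involutions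
  obtain ⟨hCz, hall⟩ : Nat.card (centralizer ({z} : Set G)) = 21504 ∧
      ∀ i : G, orderOf i = 2 → IsConj z i ∨ IsConj t i :=
    hcase.resolve_right fun ⟨hCz, c, hc, hzc, _, hCc⟩ => H.not_big hz hu huz hCz hzc hCc hc
  obtain ⟨a7, b7, c7⟩ := H.data7 hu
  have hle : ∀ x : G, centralizer ({x} : Set G) ≤ normalizer (zpowers x : Set G) :=
    fun x c hc => centralizer_le_normalizer _ (cent_le_zpowers hc)
  obtain ⟨-, h8, -⟩ := H.spectrum
  exact ⟨{
    card := H.card
    simple := H.simple
    z := z
    u := u
    t := t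
    z_two := hz
    u_seven := hu
    uz := huz.eq
    card_Cz := hCz
    card_Czu := by
      have h := card_inf_mul a7 b7 c7 hz huz _ le_rfl (hle u)
      rw [(H.seven hu).1] at h
      omega
    card_Nzu := by
      have h := card_inf_mul a7 b7 c7 hz huz _ (hle u) le_rfl
      rw [H.N7 hu] at h
      omega
    t_two := ht
    card_Ct := hCt
    involution := fun i hi => (hall i hi).imp isConj_iff.1 isConj_iff.1
    card_five := fun v hv => (H.five hv).1
    five := fun v hv hvt => by
      obtain ⟨a5, b5, c5⟩ := H.data5 hv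
      have h1 := card_inf_mul a5 b5 c5 ht hvt _ le_rfl (hle v)
      have h2 := card_inf_mul a5 b5 c5 ht hvt _ (hle v) le_rfl
      rw [(H.five hv).1] at h1
      rw [H.N5 hv] at h2
      omega
    eight := cnt_pos_iff.1 (by omega)
    six := H.six hz ht hzt hCz hCt hall }⟩

end Cfsg.Agent.M24Order
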