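import Cfsg.Agent.Lib.M24Order.Count.Basic

/-!
# The element orders: 1, 2, 3, 4, 5, 6, 7, 8, 10, 11, 12, 14, 15, 21, 23

The four orders left are powers of two times at most three, by the divisibility of the numbers of
solutions of `x ^ 1024 = 1` and `x ^ 3072 = 1` by `1024`.
-/

set_option autoImplicit false
set_option linter.style.haveILetI false
set_option linter.unusedSectionVars false

namespace Cfsg.Agent.M24Order.Count.Hyp

universe u

variable {G : Type u} [Group G] [Finite G] (H : Hyp G)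

local instance fact5' : Fact (Nat.Prime 5) := ⟨by norm_num⟩
local instance fact7' : Fact (Nat.Prime 7) := ⟨by norm_num⟩

theorem sum_seven (f : ℕ → ℕ) {a b c e : ℕ} (h : [1, 2, 3, a, b, c, e].Nodup) :
    ∑ n ∈ ({1, 2, 3, a, b, c, e} : Finset ℕ), f n = f 1 + f 2 + f 3 + f a + f b + f c + f e := by
  rw [show ({1, 2, 3, a, b, c, e} : Finset ℕ) = [1, 2, 3, a, b, c, e].toFinset by simp,
    List.sum_toFinset f h]
  simp only [List.map_cons, List.map_nil, List.sum_cons, List.sum_nil, add_zero, add_assoc]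

theorem two_cases {a b : ℕ} (h : a ≠ b) (h1 : 4 = a ∨ 4 = b) (h2 : a = 4 ∨ 8 = a ∨ 8 = b)
    (h3 : b = 4 ∨ 8 = a ∨ 8 = b) : a = 4 ∧ b = 8 ∨ a = 8 ∧ b = 4 := by omega

theorem three_cases {c e : ℕ} (h : c ≠ e) (h1 : 6 = c ∨ 6 = e) (h2 : c = 6 ∨ c = 12 ∨ 12 = c ∨ 12 = e)
    (h3 : e = 6 ∨ e = 12 ∨ 12 = c ∨ 12 = e) : c = 6 ∧ e = 12 ∨ c = 12 ∧ e = 6 := by omega

theorem six_twelve {a b e : ℕ} (h : a ≠ b) (h' : a ≠ e) (h'' : b ≠ e) (qa : a = 6 ∨ a = 12)
    (qb : b = 6 ∨ b = 12) (qe : e = 6 ∨ e = 12) : False := by omega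

set_option synthInstance.maxSize 4096 in
theorem shape_bool : ∀ A B C E A' B' C' E' : Bool,
    (A = true → A' = true) → (B = true → B' = true) → (C = true → C' = true) → (E = true → E' = true) →
    1024 ∣ 43264 + (bif A then 5100480 else 0) + (bif B then 15301440 else 0) +
      (bif C then 20401920 else 0) + (bif E then 40803840 else 0) →
    1024 ∣ 755712 + (bif A' then 5100480 else 0) + (bif B' then 15301440 else 0) +
      (bif C' then 20401920 else 0) + (bif E' then 40803840 else 0) →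
    (C = true ∧ A = false ∧ B = false ∧ E = false ∨ A = true ∧ B = true ∧ C = false ∧ E = false) ∧
      A' = true ∧ B' = true ∧ C' = true ∧ E' = true := by
  decide +kernel

set_option synthInstance.maxSize 4096 in
theorem dvd_shapes : ∀ n ∈ Nat.divisors 3072,
    (n ∣ 1024 → n ≠ 1 → n ≠ 2 → 4 ∣ n ∧ (n ≠ 4 → 8 ∣ n)) ∧
    (¬ n ∣ 1024 → n ≠ 3 → 6 ∣ n ∧ (n ≠ 6 → n ≠ 12 → 8 ∣ n ∧ 12 ∣ n)) := by decide +kernel

include H

theorem cnt_known : cnt G 10 = 12241152 ∧ cnt G 15 = 32643072 ∧ cnt G 14 = 34974720 ∧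
    cnt G 21 = 23316480 := by
  obtain ⟨x5, hx5⟩ := exists_elt (G := G) (q := 5) (by rw [H.card]; norm_num)
  obtain ⟨x7, hx7⟩ := exists_elt (G := G) (q := 7) (by rw [H.card]; norm_num)
  have g5 := H.card_eq (show 244823040 = 5 * 48964608 by norm_num)
  have g7 := H.card_eq (show 244823040 = 7 * 34974720 by norm_num)
  refine ⟨?_, ?_, ?_, ?_⟩
  · rw [show 10 = 5 * 2 from rfl, cnt_mul g5 (by norm_num) (by norm_num) (by norm_num) hx5, H.cnt5,
      (H.five hx5).2.1]
  · rw [show 15 = 5 * 3 from rfl, cnt_mul g5 (by norm_num) (by norm_num) (by norm_num) hx5, H.cnt5,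
      (H.five hx5).2.2.1]
  · rw [show 14 = 7 * 2 from rfl, cnt_mul g7 (by norm_num) (by norm_num) (by norm_num) hx7, H.cnt7,
      (H.seven hx7).2.1]
  · rw [show 21 = 7 * 3 from rfl, cnt_mul g7 (by norm_num) (by norm_num) (by norm_num) hx7, H.cnt7,
      (H.seven hx7).2.2.1]

/-- A value of the four is attained at a new order. -/
theorem exists_new {w : ℕ} (hw : w ∈ [5100480, 15301440, 20401920, 40803840]) :
    ∃ n, cnt G n = w ∧ 0 < cnt G n ∧ n ∉ [1, 2, 3, 5, 7, 10, 11, 14, 15, 21, 23] := by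
  obtain ⟨n, hn, hpos⟩ := H.exists_eq
    ((show ∀ w ∈ [5100480, 15301440, 20401920, 40803840], w ∈ V by decide) w hw)
  obtain ⟨h10, h15, h14, h21⟩ := H.cnt_known
  refine ⟨n, hn, hpos, fun h => ?_⟩
  simp only [List.mem_cons, List.not_mem_nil, or_false] at h hw
  have h1 := cnt_one (G := G)
  have h2 := H.cnt_two
  have h3 := H.cnt_three
  have h5 := H.cnt5
  have h7 := H.cnt7
  have h11 := H.cnt11
  have h23 := H.cnt23
  rcases h with rfl | rfl | rfl | rfl | rfl | rfl | rfl | rfl | rfl | rfl | rfl <;> omega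

/-- The spectrum with its counts. -/
theorem spectrum : (cnt G 4 = 5100480 ∨ cnt G 4 = 15301440) ∧ (cnt G 8 = 5100480 ∨ cnt G 8 = 15301440) ∧
    (cnt G 6 = 20401920 ∨ cnt G 6 = 40803840) ∧ (cnt G 12 = 20401920 ∨ cnt G 12 = 40803840) ∧
    ∀ n, 0 < cnt G n → n ∈ [1, 2, 3, 4, 5, 6, 7, 8, 10, 11, 12, 14, 15, 21, 23] := by
  classical
  obtain ⟨a, ha, pa, na⟩ := H.exists_new (w := 5100480) (by decide)
  obtain ⟨b, hb, pb, nb⟩ := H.exists_new (w := 15301440) (by decide)
  obtain ⟨c, hc, pc, nc⟩ := H.exists_new (w := 20401920) (by decide)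
  obtain ⟨e, he, pe, ne⟩ := H.exists_new (w := 40803840) (by decide)
  have hab : a ≠ b := fun h => by rw [h, hb] at ha; norm_num at ha
  have hac : a ≠ c := fun h => by rw [h, hc] at ha; norm_num at ha
  have hae : a ≠ e := fun h => by rw [h, he] at ha; norm_num at ha
  have hbc : b ≠ c := fun h => by rw [h, hc] at hb; norm_num at hb
  have hbe : b ≠ e := fun h => by rw [h, he] at hb; norm_num at hb
  have hce : c ≠ e := fun h => by rw [h, he] at hc; norm_num at hc
  have hall : ∀ n, 0 < cnt G n → n ∈ [1, 2, 3, 5, 7, 10, 11, 14, 15, 21, 23] ∨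
      n = a ∨ n = b ∨ n = c ∨ n = e := by
    intro n hn
    rcases H.rest hn with h | ⟨-, h⟩
    · exact Or.inl h
    refine Or.inr ?_
    simp only [List.mem_cons, List.not_mem_nil, or_false] at h
    rcases h with h | h | h | h
    · exact Or.inl (H.unique hn (h.trans ha.symm))
    · exact Or.inr (Or.inl (H.unique hn (h.trans hb.symm)))
    · exact Or.inr (Or.inr (Or.inl (H.unique hn (h.trans hc.symm))))
    · exact Or.inr (Or.inr (Or.inr (H.unique hn (h.trans he.symm))))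
  simp only [List.mem_cons, List.not_mem_nil, or_false, not_or] at na nb nc ne hall
  have key : ∀ m, Odd m → m ∣ 3 → 1024 ∣ Nat.card {x : G // x ^ (m * 2 ^ 10) = 1} := fun m hm _ =>
    two_part_dvd (a := 10) (o := 239085) (H.card.trans (by norm_num)) (by decide) hm
  have hnd : [1, 2, 3, a, b, c, e].Nodup := by
    simp [List.nodup_cons, hab, hac, hae, hbc, hbe, hce, Ne.symm na.1, Ne.symm na.2.1, Ne.symm na.2.2.1,
      Ne.symm nb.1, Ne.symm nb.2.1, Ne.symm nb.2.2.1, Ne.symm nc.1, Ne.symm nc.2.1, Ne.symm nc.2.2.1,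
      Ne.symm ne.1, Ne.symm ne.2.1, Ne.symm ne.2.2.1]
  have hsum : ∀ N, 0 < N → (∀ q ∈ [5, 7, 10, 11, 14, 15, 21, 23], ¬ q ∣ N) →
      Nat.card {x : G // x ^ N = 1} =
        (if 1 ∣ N then 1 else 0) + (if 2 ∣ N then 43263 else 0) + (if 3 ∣ N then 712448 else 0) +
        (if a ∣ N then 5100480 else 0) + (if b ∣ N then 15301440 else 0) +
        (if c ∣ N then 20401920 else 0) + (if e ∣ N then 40803840 else 0) := by
    intro N hN hq
    haveI := Fintype.ofFinite G
    have h1 : Nat.card {x : G // x ^ N = 1} = ∑ n ∈ N.divisors, cnt G n := by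
      rw [Nat.card_eq_fintype_card, Fintype.card_subtype,
        Finset.card_eq_sum_card_fiberwise (f := orderOf) (t := N.divisors) (fun x hx => by
          simp only [Finset.coe_filter, Finset.mem_univ, true_and, Set.mem_setOf_eq] at hx
          exact Finset.mem_coe.2 (Nat.mem_divisors.2 ⟨orderOf_dvd_of_pow_eq_one hx, hN.ne'⟩))]
      refine Finset.sum_congr rfl fun n hn => ?_
      rw [cnt_eq_filter, Finset.filter_filter]
      congr 1
      ext x
      simp only [Finset.mem_filter, Finset.mem_univ, true_and]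
      exact ⟨fun h => h.2, fun h => ⟨orderOf_dvd_iff_pow_eq_one.1 (h ▸ Nat.dvd_of_mem_divisors hn), h⟩⟩
    have hg : ∀ n, cnt G n = cnt G n := fun _ => rfl
    have h2 : ∑ n ∈ N.divisors, cnt G n =
        ∑ n ∈ ({1, 2, 3, a, b, c, e} : Finset ℕ), if n ∣ N then cnt G n else 0 := by
      rw [← Finset.sum_filter]
      refine (Finset.sum_subset (fun n hn => ?_) fun n hn hn' => ?_).symm
      · exact Nat.mem_divisors.2 ⟨(Finset.mem_filter.1 hn).2, hN.ne'⟩
      · by_contra h0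
        have hd := Nat.dvd_of_mem_divisors hn
        have hcase := hall n (Nat.pos_of_ne_zero h0)
        simp only [Finset.mem_filter, Finset.mem_insert, Finset.mem_singleton, not_and] at hn'
        simp only [List.mem_cons, List.not_mem_nil, or_false, forall_eq_or_imp, forall_eq] at hq
        obtain ⟨q5, q7, q10, q11, q14, q15, q21, q23⟩ := hq
        have hn'' : ¬ (n = 1 ∨ n = 2 ∨ n = 3 ∨ n = a ∨ n = b ∨ n = c ∨ n = e) := fun h => hn' h hd
        rcases hcase with (rfl | rfl | rfl | rfl | rfl | rfl | rfl | rfl | rfl | rfl | rfl) | h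
        · exact hn'' (Or.inl rfl)
        · exact hn'' (Or.inr (Or.inl rfl))
        · exact hn'' (Or.inr (Or.inr (Or.inl rfl)))
        all_goals first
          | contradiction
          | exact hn'' (Or.inr (Or.inr (Or.inr h)))
    rw [h1, h2, sum_seven _ hnd, cnt_one, H.cnt_two, H.cnt_three, ha, hb, hc, he]
  have s1 := key 1 (by decide) (by decide)
  have s3 := key 3 (by decide) (dvd_refl 3)
  rw [hsum _ (by norm_num) (by decide)] at s1 s3
  norm_num at s1 s3
  have hdiv3 : ∀ n, n ∣ 1024 → n ∣ 3072 := fun n h => h.trans (by norm_num)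
  -- exactly one of two shapes
  have hshape : (c ∣ 1024 ∧ ¬ a ∣ 1024 ∧ ¬ b ∣ 1024 ∧ ¬ e ∣ 1024 ∨
      a ∣ 1024 ∧ b ∣ 1024 ∧ ¬ c ∣ 1024 ∧ ¬ e ∣ 1024) ∧
      a ∣ 3072 ∧ b ∣ 3072 ∧ c ∣ 3072 ∧ e ∣ 3072 := by
    have h := shape_bool (decide (a ∣ 1024)) (decide (b ∣ 1024)) (decide (c ∣ 1024)) (decide (e ∣ 1024))
      (decide (a ∣ 3072)) (decide (b ∣ 3072)) (decide (c ∣ 3072)) (decide (e ∣ 3072))
      (by simpa using hdiv3 a) (by simpa using hdiv3 b) (by simpa using hdiv3 c) (by simpa using hdiv3 e)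
      (by simpa only [Bool.cond_decide] using s1) (by simpa only [Bool.cond_decide] using s3)
    simpa using h
  obtain ⟨hsh, a3, b3, c3, e3⟩ := hshape
  clear s1 s3 hsum key
  have hdec := dvd_shapes
  have hcl : ∀ n d, 0 < cnt G n → d ∣ n → d ∈ [4, 6, 8, 12] → d = a ∨ d = b ∨ d = c ∨ d = e :=
    fun n d hn hd hd' => (hall d (cnt_dvd_pos hn hd)).resolve_left fun h => by
      simp only [List.mem_cons, List.not_mem_nil, or_false] at hd'; omega
  have h3072 : ∀ {n : ℕ}, n ∣ 3072 → n ∈ Nat.divisors 3072 := fun h =>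
    Nat.mem_divisors.2 ⟨h, by norm_num⟩
  obtain ⟨da, da'⟩ := hdec a (h3072 a3)
  obtain ⟨db, db'⟩ := hdec b (h3072 b3)
  obtain ⟨dc, dc'⟩ := hdec c (h3072 c3)
  obtain ⟨de, de'⟩ := hdec e (h3072 e3)
  rcases hsh with ⟨c1, a1, b1, e1⟩ | ⟨a1, b1, c1, e1⟩
  · exfalso
    obtain ⟨c4, c8⟩ := dc c1 nc.1 nc.2.1
    obtain ⟨-, a8⟩ := da' a1 na.2.2.1
    obtain ⟨-, b8⟩ := db' b1 nb.2.2.1
    obtain ⟨-, e8⟩ := de' e1 ne.2.2.1
    have hc4 : c = 4 := by
      rcases hcl c 4 pc c4 (by decide) with h | h | h | h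
      · exact absurd (show a ∣ 1024 by rw [← h]; norm_num) a1
      · exact absurd (show b ∣ 1024 by rw [← h]; norm_num) b1
      · exact h.symm
      · exact absurd (show e ∣ 1024 by rw [← h]; norm_num) e1
    have hno : ∀ x, 0 < cnt G x → ¬ 8 ∣ x := fun x hx h => by
      rcases hcl x 8 hx h (by decide) with h' | h' | h' | h'
      · exact a1 (by rw [← h']; norm_num)
      · exact b1 (by rw [← h']; norm_num)
      · omega
      · exact e1 (by rw [← h']; norm_num)
    have qa : a = 6 ∨ a = 12 := by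
      by_contra h; exact hno a pa (a8 (by omega) (by omega)).1
    have qb : b = 6 ∨ b = 12 := by
      by_contra h; exact hno b pb (b8 (by omega) (by omega)).1
    have qe : e = 6 ∨ e = 12 := by
      by_contra h; exact hno e pe (e8 (by omega) (by omega)).1
    exact six_twelve hab hae hbe qa qb qe
  · obtain ⟨a4, a8⟩ := da a1 na.1 na.2.1
    obtain ⟨b4, b8⟩ := db b1 nb.1 nb.2.1
    obtain ⟨c6, c8⟩ := dc' c1 nc.2.2.1
    obtain ⟨e6, e8⟩ := de' e1 ne.2.2.1
    have htwo : ∀ x d, 0 < cnt G x → d ∣ x → d ∈ [4, 8] → d = a ∨ d = b := fun x d hx h hd => by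
      have hd' : d ∈ [4, 6, 8, 12] ∧ d ∣ 1024 :=
        (show ∀ d ∈ [4, 8], d ∈ [4, 6, 8, 12] ∧ d ∣ 1024 by decide) d hd
      rcases hcl x d hx h hd'.1 with h' | h' | h' | h'
      · exact Or.inl h'
      · exact Or.inr h'
      · exact absurd (h' ▸ hd'.2) c1
      · exact absurd (h' ▸ hd'.2) e1
    have hthree : ∀ x d, 0 < cnt G x → d ∣ x → d ∈ [6, 12] → d = c ∨ d = e := fun x d hx h hd => by
      have hd' : d ∈ [4, 6, 8, 12] ∧ ¬ d ∣ 1024 :=
        (show ∀ d ∈ [6, 12], d ∈ [4, 6, 8, 12] ∧ ¬ d ∣ 1024 by decide) d hd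
      rcases hcl x d hx h hd'.1 with h' | h' | h' | h'
      · exact absurd (h'.symm ▸ a1) hd'.2
      · exact absurd (h'.symm ▸ b1) hd'.2
      · exact Or.inl h'
      · exact Or.inr h'
    have ha4 := htwo a 4 pa a4 (by decide)
    have hb4 := htwo b 4 pb b4 (by decide)
    have ha8 : a = 4 ∨ 8 = a ∨ 8 = b :=
      (em (a = 4)).imp id fun h => htwo a 8 pa (a8 h) (by decide)
    have hb8 : b = 4 ∨ 8 = a ∨ 8 = b :=
      (em (b = 4)).imp id fun h => htwo b 8 pb (b8 h) (by decide)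
    have qab := two_cases hab ha4 ha8 hb8
    have hc6 := hthree c 6 pc c6 (by decide)
    have he6 := hthree e 6 pe e6 (by decide)
    have hc12 : c = 6 ∨ c = 12 ∨ 12 = c ∨ 12 = e := by
      by_contra h
      exact h (Or.inr (Or.inr (hthree c 12 pc (c8 (by omega) (by omega)).2 (by decide))))
    have he12 : e = 6 ∨ e = 12 ∨ 12 = c ∨ 12 = e := by
      by_contra h
      exact h (Or.inr (Or.inr (hthree e 12 pe (e8 (by omega) (by omega)).2 (by decide))))
    have qce := three_cases hce hc6 hc12 he12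
    refine ⟨?_, ?_, ?_, ?_, fun n hn => ?_⟩
    · rcases qab with ⟨h, -⟩ | ⟨-, h⟩
      · exact Or.inl (h ▸ ha)
      · exact Or.inr (h ▸ hb)
    · rcases qab with ⟨-, h⟩ | ⟨h, -⟩
      · exact Or.inr (h ▸ hb)
      · exact Or.inl (h ▸ ha)
    · rcases qce with ⟨h, -⟩ | ⟨-, h⟩
      · exact Or.inl (h ▸ hc)
      · exact Or.inr (h ▸ he)
    · rcases qce with ⟨-, h⟩ | ⟨h, -⟩
      · exact Or.inr (h ▸ he)
      · exact Or.inl (h ▸ hc)
    · have := hall n hn
      simp only [List.mem_cons, List.not_mem_nil, or_false]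
      omega

end Cfsg.Agent.M24Order.Count.Hyp
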