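import Cfsg.Agent.Lib.M22Order.Nse
import Cfsg.Agent.Lib.CharTheory.Sections
import Cfsg.Agent.Lib.SmallSimple.Basic

/-!
# Counting tools: coprime parts, a divisibility of Frobenius, transfer at a prime
-/

set_option autoImplicit false
set_option linter.style.haveILetI false
set_option linter.unusedSectionVars false

namespace Cfsg.Agent.M24Order.Count

open Subgroup

universe u

variable {G : Type u} [Group G] [Finite G]

/-- The number of elements of order `n`. -/
noncomputable def cnt (G : Type u) [Group G] (n : ℕ) : ℕ := Nat.card {g : G // orderOf g = n}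

theorem pow_congr {x : G} {N a b : ℕ} (hx : x ^ N = 1) (h : a ≡ b [MOD N]) : x ^ a = x ^ b :=
  pow_eq_pow_iff_modEq.2 (h.of_dvd (orderOf_dvd_of_pow_eq_one hx))

/-- A solution of `x ^ (a * b) = 1` splits into commuting solutions for `a` and `b`. -/
noncomputable def partsEquiv {a b : ℕ} (hab : Nat.Coprime a b) :
    {x : G // x ^ (a * b) = 1} ≃
      Σ y : {y : G // y ^ a = 1}, {c : G // Commute y.1 c ∧ c ^ b = 1} :=
  let e := (Nat.chineseRemainder hab 1 0).1
  let f := (Nat.chineseRemainder hab 0 1).1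
  have he : e ≡ 1 [MOD a] ∧ e ≡ 0 [MOD b] := (Nat.chineseRemainder hab 1 0).2
  have hf : f ≡ 0 [MOD a] ∧ f ≡ 1 [MOD b] := (Nat.chineseRemainder hab 0 1).2
  { toFun := fun x => ⟨⟨x.1 ^ e, by
        obtain ⟨k, hk⟩ := Nat.modEq_zero_iff_dvd.1 he.2
        rw [← pow_mul, hk, show b * k * a = a * b * k by ring, pow_mul, x.2, one_pow]⟩,
      ⟨x.1 ^ f, (Commute.refl x.1).pow_pow _ _, by
        obtain ⟨k, hk⟩ := Nat.modEq_zero_iff_dvd.1 hf.1
        rw [← pow_mul, hk, show a * k * b = a * b * k by ring, pow_mul, x.2, one_pow]⟩⟩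
    invFun := fun p => ⟨p.1.1 * p.2.1, by
      rw [p.2.2.1.mul_pow, pow_mul, p.1.2, one_pow, one_mul, mul_comm a b, pow_mul, p.2.2.2, one_pow]⟩
    left_inv := fun x => by
      apply Subtype.ext
      show x.1 ^ e * x.1 ^ f = x.1
      rw [← pow_add]
      refine (pow_congr x.2 ?_).trans (pow_one x.1)
      exact (Nat.modEq_and_modEq_iff_modEq_mul hab).1
        ⟨by simpa using he.1.add hf.1, by simpa using he.2.add hf.2⟩
    right_inv := fun p => by
      obtain ⟨⟨y, hy⟩, c, hc, hcb⟩ := p
      change Commute y c at hc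
      have h1 : (y * c) ^ e = y := by
        rw [hc.mul_pow, pow_congr hy he.1, pow_congr hcb he.2, pow_one, pow_zero, mul_one]
      have h2 : (y * c) ^ f = c := by
        rw [hc.mul_pow, pow_congr hy hf.1, pow_congr hcb hf.2, pow_one, pow_zero, one_mul]
      refine Sigma.subtype_ext (Subtype.ext ?_) ?_
      · exact h1
      · exact h2 }

theorem card_split {a b : ℕ} [Fintype {y : G // orderOf y = a}] (ha : 0 < a) (hb : 0 < b)
    (hab : Nat.Coprime a b) :
    cnt G (a * b) =
      ∑ y : {y : G // orderOf y = a}, Nat.card {c : G // Commute y.1 c ∧ orderOf c = b} := by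
  classical
  rw [← Nat.card_sigma, cnt]
  symm
  refine Nat.card_eq_of_bijective
    (fun p => ⟨p.1.1 * p.2.1, by
      rw [p.2.2.1.orderOf_mul_eq_mul_orderOf_of_coprime (by rw [p.1.2, p.2.2.2]; exact hab), p.1.2,
        p.2.2.2]⟩) ⟨?_, ?_⟩
  · rintro ⟨⟨y, hy⟩, c, hc, hcb⟩ ⟨⟨y', hy'⟩, c', hc', hcb'⟩ h
    have h' : y * c = y' * c' := congrArg Subtype.val h
    have e := (partsEquiv hab (G := G)).symm.injective
      (a₁ := ⟨⟨y, by rw [← hy]; exact pow_orderOf_eq_one y⟩, c, hc, by rw [← hcb]; exact pow_orderOf_eq_one c⟩)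
      (a₂ := ⟨⟨y', by rw [← hy']; exact pow_orderOf_eq_one y'⟩, c', hc', by rw [← hcb']; exact pow_orderOf_eq_one c'⟩)
      (Subtype.ext h')
    have ey : y = y' := congrArg (fun q : Σ y : {y : G // y ^ a = 1}, {c : G // Commute y.1 c ∧ c ^ b = 1} => q.1.1) e
    subst ey
    have ec : c = c' := mul_left_cancel h'
    subst ec
    rfl
  · rintro ⟨x, hx⟩
    have hxab : x ^ (a * b) = 1 := by rw [← hx]; exact pow_orderOf_eq_one x
    obtain ⟨⟨⟨y, hy⟩, c, hc, hcb⟩, hp⟩ :=
      (partsEquiv hab (G := G)).symm.surjective ⟨x, hxab⟩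
    have hp' : y * c = x := congrArg Subtype.val hp
    have hda : orderOf y ∣ a := orderOf_dvd_of_pow_eq_one hy
    have hdb : orderOf c ∣ b := orderOf_dvd_of_pow_eq_one hcb
    have hcop : Nat.Coprime (orderOf y) (orderOf c) :=
      Nat.Coprime.coprime_dvd_left hda (Nat.Coprime.coprime_dvd_right hdb hab)
    have hmul : orderOf y * orderOf c = a * b := by
      rw [← hc.orderOf_mul_eq_mul_orderOf_of_coprime hcop, hp', hx]
    have hya : orderOf y = a := by
      refine Nat.dvd_antisymm hda ?_
      exact (Nat.Coprime.coprime_dvd_right hdb hab).dvd_of_dvd_mul_right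
        (show a ∣ orderOf y * orderOf c from ⟨b, hmul⟩)
    have hcb' : orderOf c = b := by
      rw [hya] at hmul
      exact Nat.eq_of_mul_eq_mul_left ha hmul
    exact ⟨⟨⟨y, hya⟩, c, hc, hcb'⟩, Subtype.ext hp'⟩

/-- The 2-part of a group order divides the number of solutions of `x ^ (2 ^ a * m) = 1`, `m` odd. -/
theorem two_part_dvd {a m o : ℕ} (hG : Nat.card G = 2 ^ a * o) (ho : Odd o) (hm : Odd m) :
    2 ^ a ∣ Nat.card {x : G // x ^ (m * 2 ^ a) = 1} := by
  classical
  haveI := Fintype.ofFinite G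
  have hcop : Nat.Coprime m (2 ^ a) := Nat.Coprime.pow_right a hm.coprime_two_right
  rw [Nat.card_congr (partsEquiv hcop), Nat.card_sigma]
  set Φ : G → ℕ := fun y => Nat.card {c : G // Commute y c ∧ c ^ 2 ^ a = 1} with hΦ
  set S : Finset G := Finset.univ.filter fun y => y ^ m = 1 with hS
  rw [show (∑ y : {y : G // y ^ m = 1}, Nat.card {c : G // Commute y.1 c ∧ c ^ 2 ^ a = 1}) =
    ∑ y ∈ S, Φ y from (Finset.sum_subtype S (by simp [hS]) Φ).symm]
  have hconj : ∀ y g : G, Φ (g * y * g⁻¹) = Φ y := by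
    intro y g
    refine (Nat.card_congr ((MulAut.conj g).toEquiv.subtypeEquiv fun c => ?_)).symm
    show Commute y c ∧ c ^ 2 ^ a = 1 ↔ Commute (g * y * g⁻¹) (g * c * g⁻¹) ∧ (g * c * g⁻¹) ^ 2 ^ a = 1
    refine and_congr ⟨fun h => ?_, fun h => ?_⟩ ?_
    · simpa using h.map (MulAut.conj g).toMonoidHom
    · simpa [mul_assoc] using h.map (MulAut.conj g⁻¹).toMonoidHom
    · rw [conj_pow, conj_eq_one_iff]
  rw [Finset.sum_partition (IsConj.setoid G)]
  refine Finset.dvd_sum fun q hq => ?_
  obtain ⟨y, hy, rfl⟩ := Finset.mem_image.1 hq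
  simp only [hS, Finset.mem_filter, Finset.mem_univ, true_and] at hy
  have hfib : ∀ x ∈ S.filter (fun x => (⟦x⟧ : Quotient (IsConj.setoid G)) = ⟦y⟧), Φ x = Φ y := by
    intro x hx
    obtain ⟨g, rfl⟩ := isConj_iff.1 (Quotient.exact (Finset.mem_filter.1 hx).2).symm
    exact hconj y g
  rw [Finset.sum_congr rfl hfib, Finset.sum_const, smul_eq_mul]
  have hcl : (S.filter fun x => (⟦x⟧ : Quotient (IsConj.setoid G)) = ⟦y⟧).card =
      Nat.card {x : G // IsConj y x} := by
    rw [Nat.card_eq_fintype_card, Fintype.card_subtype]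
    congr 1
    ext x
    simp only [hS, Finset.mem_filter, Finset.mem_univ, true_and, Quotient.eq]
    constructor
    · exact fun h => h.2.symm
    · intro h
      obtain ⟨g, rfl⟩ := isConj_iff.1 h
      exact ⟨by rw [conj_pow, hy]; group, h.symm⟩
  rw [hcl]
  have hmul := SmallSimple.Basic.card_centralizer_mul_card_class y
  obtain ⟨b, o', ho', hC⟩ := Nat.exists_eq_two_pow_mul_odd
    (n := Nat.card (centralizer ({y} : Set G))) Nat.card_pos.ne'
  have hΦd : 2 ^ b ∣ Φ y := by
    have hd := CharTheory.Sections.dvd_card_pow_eq_one (G := centralizer ({y} : Set G))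
      (Nat.Coprime.pow_left b ho'.coprime_two_left) hC
    have hba : b ≤ a := by
      have : 2 ^ b ∣ 2 ^ a * o := by
        rw [← hG]
        exact (Dvd.intro _ hC.symm).trans (card_subgroup_dvd_card _)
      exact (Nat.pow_dvd_pow_iff_le_right (by norm_num)).1
        ((Nat.Coprime.pow_left b ho.coprime_two_left).dvd_of_dvd_mul_right this)
    refine hd.trans (dvd_of_eq (Nat.card_congr
      { toFun := fun c => ⟨c.1.1, (mem_centralizer_singleton_iff.1 c.1.2).symm, by
          have h := congrArg Subtype.val c.2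
          rw [SubgroupClass.coe_pow, OneMemClass.coe_one] at h
          exact orderOf_dvd_iff_pow_eq_one.1
            ((orderOf_dvd_of_pow_eq_one h).trans (pow_dvd_pow 2 hba))⟩
        invFun := fun c => ⟨⟨c.1, mem_centralizer_singleton_iff.2 c.2.1.symm⟩, Subtype.ext (by
          rw [SubgroupClass.coe_pow, OneMemClass.coe_one]
          have h1 : orderOf c.1 ∣ 2 ^ a := orderOf_dvd_of_pow_eq_one c.2.2
          have h2 : orderOf c.1 ∣ 2 ^ b * o' := by
            rw [← hC]
            exact Subgroup.orderOf_dvd_natCard _ (mem_centralizer_singleton_iff.2 c.2.1.symm)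
          exact orderOf_dvd_iff_pow_eq_one.1
            (((Nat.Coprime.pow_left a ho'.coprime_two_left).coprime_dvd_left h1).dvd_of_dvd_mul_right h2))⟩
        left_inv := fun c => rfl
        right_inv := fun c => rfl }))
  rw [hC] at hmul
  have h : 2 ^ a ∣ o' * (Nat.card {x : G // IsConj y x} * 2 ^ b) :=
    ⟨o, by rw [← hG, ← hmul]; ring⟩
  exact ((Nat.Coprime.pow_left a ho'.coprime_two_left).dvd_of_dvd_mul_left h).trans
    (Nat.mul_dvd_mul_left _ hΦd)

/-- A group with a Sylow subgroup of prime order, of prime index in its normaliser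
and no normal subgroup of order prime to it is simple. -/
theorem isSimple_of_fpf {p e : ℕ} [hp : Fact p.Prime] (he : e.Prime) (P : Sylow p G)
    (hP : Nat.card (P : Subgroup G) = p)
    (hN : Nat.card (normalizer ((P : Subgroup G) : Set G)) = p * e)
    (hbig : p * e < Nat.card G) (hone : ∀ K : Subgroup G, K.Normal → ¬ p ∣ Nat.card K → K = ⊥) :
    IsSimpleGroup G := by
  haveI : Nontrivial G := Finite.one_lt_card_iff_nontrivial.1
    (lt_of_le_of_lt (Nat.one_le_iff_ne_zero.2 (Nat.mul_ne_zero hp.out.ne_zero he.ne_zero)) hbig)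
  refine ⟨fun N hN' => or_iff_not_imp_left.2 fun hbot => ?_⟩
  by_contra htop
  haveI := hN'
  have hpN : p ∣ Nat.card N := not_not.1 fun h => hbot (hone N hN' h)
  obtain ⟨⟨x, hxN⟩, hx⟩ := exists_prime_orderOf_dvd_card' (G := N) p hpN
  rw [Subgroup.orderOf_mk] at hx
  obtain ⟨g, hg⟩ := (IsPGroup.of_card (n := 1) (by rw [Nat.card_zpowers, hx, pow_one]) :
    IsPGroup p (zpowers x)).exists_le_sylow
  obtain ⟨k, hk⟩ := MulAction.exists_smul_eq G g P
  have hPN : (P : Subgroup G) ≤ N := by
    have hg' : (g : Subgroup G) = zpowers x := by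
      refine (eq_of_le_of_card_ge hg ?_).symm
      rw [Nat.card_zpowers, hx, g.card_eq_multiplicity, ← P.card_eq_multiplicity, hP]
    intro y hy
    rw [← hk] at hy
    obtain ⟨z, hz, rfl⟩ := hy
    exact hN'.conj_mem z ((hg'.le.trans (zpowers_le.2 hxN)) hz) k
  have hsup : normalizer ((P : Subgroup G) : Set G) ⊔ N = ⊤ := P.normalizer_sup_eq_top' hPN
  have h2 : (P : Subgroup G).relIndex (normalizer ((P : Subgroup G) : Set G)) = e := by
    have := relIndex_mul_relIndex ⊥ (P : Subgroup G) (normalizer ((P : Subgroup G) : Set G))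
      bot_le le_normalizer
    rw [relIndex_bot_left, relIndex_bot_left, hP, hN] at this
    exact Nat.eq_of_mul_eq_mul_left hp.out.pos this
  have hidx : N.index = e := by
    have h1 : N.relIndex (normalizer ((P : Subgroup G) : Set G)) = N.index := by
      rw [← relIndex_sup_right, hsup, relIndex_top_right]
    have h3 := relIndex_dvd_of_le_left (normalizer ((P : Subgroup G) : Set G)) hPN
    rw [h1, h2] at h3
    exact ((Nat.dvd_prime he).1 h3).resolve_left fun h => htop (index_eq_one.1 h)
  let S : Sylow p N := P.subtype hPN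
  have hSc : Nat.card S = p := by
    change Nat.card ((P : Subgroup G).subgroupOf N) = p
    rw [Nat.card_congr (subgroupOfEquivOfLe hPN).toEquiv, hP]
  have hlt : ¬ normalizer ((P : Subgroup G) : Set G) ≤ N := fun h => htop (by
    rw [sup_eq_right.2 h] at hsup; exact hsup)
  have hle : normalizer ((S : Subgroup N) : Set N) ≤ centralizer ((S : Subgroup N) : Set N) := by
    have hS : normalizer ((S : Subgroup N) : Set N) = (S : Subgroup N) := by
      refine (eq_of_le_of_card_ge le_normalizer ?_).symm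
      change Nat.card (normalizer ((P : Subgroup G).subgroupOf N : Set N)) ≤ Nat.card S
      rw [← subgroupOf_normalizer_eq hPN, hSc, ← inf_subgroupOf_right,
        Nat.card_congr (subgroupOfEquivOfLe inf_le_right).toEquiv]
      set M := normalizer ((P : Subgroup G) : Set G) ⊓ N with hM
      have hd : Nat.card M ∣ p * e := hN ▸ card_dvd_of_le inf_le_left
      have hpM : p ∣ Nat.card M := hP ▸ card_dvd_of_le (le_inf le_normalizer hPN)
      obtain ⟨c, hc⟩ := hpM
      rw [hc] at hd
      rcases (Nat.dvd_prime he).1 (Nat.dvd_of_mul_dvd_mul_left hp.out.pos hd) with h | h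
      · rw [hc, h, mul_one]
      · exfalso
        have : M = normalizer ((P : Subgroup G) : Set G) :=
          eq_of_le_of_card_ge inf_le_left (by rw [hc, h, hN])
        exact hlt (this ▸ inf_le_right)
    rw [hS]
    haveI : IsMulCommutative (S : Subgroup N) :=
      have := isCyclic_of_prime_card (p := p) hSc
      inferInstance
    exact Subgroup.le_centralizer _
  have hcompl := MonoidHom.ker_transferSylow_isComplement' S hle
  set K₀ := (MonoidHom.transferSylow S hle).ker
  have hK₀ : Nat.card K₀ * (p * e) = Nat.card G := by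
    have h1 := hcompl.card_mul_card
    rw [hSc] at h1
    rw [← card_mul_index N, ← h1, hidx]
    ring
  have hK₀p : ¬ p ∣ Nat.card K₀ := by
    intro h
    have h2 : p * p ∣ Nat.card G := by
      rw [← hK₀, show Nat.card K₀ * (p * e) = Nat.card K₀ * p * e by ring]
      exact dvd_mul_of_dvd_left (Nat.mul_dvd_mul_right h p) e
    have h3 := (hp.out.pow_dvd_iff_le_factorization Nat.card_pos.ne').1 ((pow_two p).symm ▸ h2)
    have h4 : (Nat.card G).factorization p = 1 := by
      have := P.card_eq_multiplicity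
      rw [hP] at this
      exact Nat.pow_right_injective hp.out.two_le (by simpa using this.symm)
    omega
  have hmem : ∀ y : N, y ∈ K₀ ↔ ¬ p ∣ orderOf y := by
    intro y
    constructor
    · intro hy h
      exact hK₀p (h.trans (Subgroup.orderOf_dvd_natCard _ hy))
    · intro hy
      have h1 : orderOf (QuotientGroup.mk' K₀ y) ∣ p := by
        have h : orderOf (QuotientGroup.mk' K₀ y) ∣ Nat.card (N ⧸ K₀) := orderOf_dvd_natCard _
        rwa [← index_eq_card, hcompl.symm.index_eq_card, hSc] at h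
      have h2 := orderOf_map_dvd (QuotientGroup.mk' K₀) y
      rcases (Nat.dvd_prime hp.out).1 h1 with h | h
      · exact (QuotientGroup.eq_one_iff y).1 (orderOf_eq_one_iff.1 h)
      · exact absurd (h ▸ h2) hy
  have hnorm : (K₀.map N.subtype).Normal := by
    refine ⟨?_⟩
    rintro _ ⟨y, hy, rfl⟩ g
    refine ⟨⟨g * y * g⁻¹, hN'.conj_mem _ y.2 g⟩, (hmem _).2 ?_, rfl⟩
    rw [Subgroup.orderOf_mk, show g * (y : G) * g⁻¹ = MulAut.conj g y from rfl,
      MulEquiv.orderOf_eq, Subgroup.orderOf_coe]
    exact (hmem y).1 hy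
  have h := hone _ hnorm (by rw [Subgroup.card_subtype]; exact hK₀p)
  have h1 : Nat.card K₀ = 1 := by rw [← Subgroup.card_subtype, h, card_bot]
  rw [h1, one_mul] at hK₀
  omega

end Cfsg.Agent.M24Order.Count
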